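import Cfsg.Agent.Lib.Char.OddSection.FixedOver
import Cfsg.Agent.Lib.Char.Exceptional.DetExtension
import Cfsg.Agent.Lib.Char.CliffordCorr
import Cfsg.Agent.Lib.Char.Gallagher
import Cfsg.Agent.Lib.CharDegree.ItoMichler
import Cfsg.Agent.Lib.CharDegree.Basic
import Mathlib.GroupTheory.FiniteAbelian.Duality
import Mathlib.Analysis.Complex.Polynomial.Basic

/-!
# Degrees over a character of a complemented normal subgroup

* `exists_degree`: an extendible character times any character of its stabiliser in a complement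
* `unique_sylow_of_degrees`: if a prime misses all these degrees, the stabiliser contains exactly one
  Sylow subgroup of the complement
* `exists_fixed_over`: a coprime group of operators fixes a character over a fixed one in an abelian section
* `exists_dvd_of_cyclic`: the index of the centraliser of a cyclic normal subgroup divides a degree
-/

set_option autoImplicit false
set_option linter.all false

namespace CfsgLib.CharDegree.ThreePrimes

open Subgroup CfsgLib.Char CfsgLib.Clifford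

section Over

variable {G : Type*} [Group G] [Finite G]

/-- The product of an extension with a character of a complement. -/
theorem exists_twist [Fintype G] {N H : Subgroup G} [N.Normal] (hc : H.IsComplement' N) {θ : N → ℂ}
    (hθ : Cfsg.IsIrrCharacter N θ) (hext : ∃ χ₀, Cfsg.IsIrrCharacter G χ₀ ∧ ∀ n : N, χ₀ n = θ n)
    (β : Cfsg.IrrCharacter H) :
    ∃ χ : Cfsg.IrrCharacter G, ∀ n : N, (χ : G → ℂ) n = (Cfsg.charDegree (β : H → ℂ) : ℂ) * θ n := by
  haveI := Fintype.ofFinite N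
  obtain ⟨χ₀, hχ₀, hres⟩ := hext
  let β' : Cfsg.IrrCharacter (G ⧸ N) :=
    ⟨_, IsIrr.comp_surjective hc.QuotientMulEquiv.toMonoidHom hc.QuotientMulEquiv.surjective β.2⟩
  have hirr : Cfsg.IsIrrCharacter N fun n : N => χ₀ n := by
    rw [show (fun n : N => χ₀ n) = θ from funext hres]; exact hθ
  refine ⟨⟨_, Gallagher.isIrr_twistBy (IsIrr.isCharacter hχ₀) hirr β'⟩, fun n => ?_⟩
  show Gallagher.twistBy χ₀ _ (n : G) = _
  rw [Gallagher.twistBy_apply_coe, hres, cast_irrDegree]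
  congr 1
  show (β : H → ℂ) (hc.QuotientMulEquiv 1) = _
  rw [map_one]

/-- A linear character invariant under a complement extends. -/
theorem exists_extension_linear {N H : Subgroup G} [N.Normal] (hc : H.IsComplement' N) (l : N →* ℂˣ)
    (hinv : ∀ (g : G) (n : N), l ⟨g * n * g⁻¹, (inferInstance : N.Normal).conj_mem _ n.2 g⟩ = l n) :
    ∃ χ₀, Cfsg.IsIrrCharacter G χ₀ ∧ ∀ n : N, χ₀ n = (l n : ℂ) := by
  let π : G →* H := hc.QuotientMulEquiv.toMonoidHom.comp (QuotientGroup.mk' N)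
  have hπ : ∀ g : G, g * (π g : G)⁻¹ ∈ N := by
    intro g
    have h1 : hc.QuotientMulEquiv.symm (π g) = (g : G ⧸ N) := by simp [π]
    have h2 : ((π g : G) : G ⧸ N) = (g : G ⧸ N) := h1
    rw [← QuotientGroup.eq_one_iff, QuotientGroup.mk_mul, QuotientGroup.mk_inv, h2, mul_inv_cancel]
  let f : G →* ℂˣ := MonoidHom.mk' (fun g => l ⟨g * (π g : G)⁻¹, hπ g⟩) fun a b => by
    have h : (⟨a * b * (π (a * b) : G)⁻¹, hπ _⟩ : N) = ⟨a * (π a : G)⁻¹, hπ a⟩ *
        ⟨(π a : G) * (b * (π b : G)⁻¹) * (π a : G)⁻¹,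
          (inferInstance : N.Normal).conj_mem _ (hπ b) _⟩ := Subtype.ext (by
      push_cast
      rw [map_mul, Subgroup.coe_mul]
      group)
    show l ⟨a * b * (π (a * b) : G)⁻¹, hπ _⟩ = _
    rw [h, map_mul, hinv (π a : G) ⟨_, hπ b⟩]
  refine ⟨_, isIrrCharacter_linear f, fun n => ?_⟩
  show ((l ⟨(n : G) * (π n : G)⁻¹, hπ n⟩ : ℂˣ) : ℂ) = l n
  congr 2
  refine Subtype.ext ?_
  show (n : G) * (π n : G)⁻¹ = n
  have : π (n : G) = 1 := by
    show hc.QuotientMulEquiv ((n : G) : G ⧸ N) = 1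
    rw [(QuotientGroup.eq_one_iff (n : G)).mpr n.2, map_one]
  rw [this]
  simp

/-- An invariant character of coprime order and index extends. -/
theorem exists_extension_coprime {N : Subgroup G} [N.Normal] [Fintype N] {θ : N → ℂ}
    (hθ : Cfsg.IsIrrCharacter N θ) (hinv : ∀ (g : G) (n : N), θ (CharExt.cn g n) = θ n)
    (hcop : (Nat.card N).Coprime N.index) :
    ∃ χ₀, Cfsg.IsIrrCharacter G χ₀ ∧ ∀ n : N, χ₀ n = θ n := by
  obtain ⟨k, σ, hσ, hσc⟩ := id hθ
  obtain ⟨χ, ⟨hχ, hres, -⟩, -⟩ := Exceptional.canonical_extension hθ hinv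
    (d := Cfsg.charDegree θ) (cast_irrDegree ⟨θ, hθ⟩).symm (by
      refine ((Nat.Coprime.mul_left ?_ ?_)).symm
      · refine hcop.coprime_dvd_left ?_
        rw [← hσc, CharExt.detOrder_eq]
        exact orderOf_dvd_of_pow_eq_one (CharExt.hom_pow_card _)
      · exact hcop.coprime_dvd_left (charDegree_dvd_card ⟨θ, hθ⟩))
  exact ⟨χ, hχ, hres⟩

variable [Fintype G] {N H : Subgroup G} [hN : N.Normal]

/-- The stabiliser in the complement. -/
def stab (N H : Subgroup G) [hN : N.Normal] (θ : N → ℂ) : Subgroup H :=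
  (inertia hN θ).subgroupOf H

theorem index_inertia (hc : H.IsComplement' N) {θ : N → ℂ} (hθ : Cfsg.IsIrrCharacter N θ) :
    (inertia hN θ).index = (stab N H θ).index := by
  have hle : N ≤ inertia hN θ := le_inertia hN (IsIrr.isClassFunction hθ)
  show _ = (inertia hN θ).relIndex H
  rw [Subgroup.relIndex, Subgroup.index]
  symm
  refine Nat.card_congr (Equiv.ofBijective
    (Quotient.map' (fun x : H => (x : G)) fun a b hab => ?_) ⟨?_, ?_⟩)
  · rw [QuotientGroup.leftRel_apply] at hab ⊢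
    exact hab
  · intro a b
    induction a using Quotient.inductionOn'
    induction b using Quotient.inductionOn'
    intro h
    rw [Quotient.map'_mk'', Quotient.map'_mk'', Quotient.eq'', QuotientGroup.leftRel_apply] at h
    exact Quotient.eq''.mpr (QuotientGroup.leftRel_apply.mpr h)
  · intro q
    induction q using Quotient.inductionOn' with
    | h g =>
      obtain ⟨⟨⟨h, hh⟩, ⟨n, hn⟩⟩, rfl⟩ := hc.2 g
      exact ⟨Quotient.mk'' ⟨h, hh⟩, Quotient.eq''.mpr (QuotientGroup.leftRel_apply.mpr (by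
        simpa using hle hn))⟩

theorem exists_degree (hc : H.IsComplement' N) [Fintype N] {θ : N → ℂ} (hθ : Cfsg.IsIrrCharacter N θ)
    (hext : ∀ I : Subgroup G, (hle : N ≤ I) → (∀ g ∈ I, conjFn hN θ g = θ) →
      (H.subgroupOf I).IsComplement' (N.subgroupOf I) → ∃ χ₀, Cfsg.IsIrrCharacter I χ₀ ∧
        ∀ n : N.subgroupOf I, χ₀ n = θ ⟨(n : I), n.2⟩)
    (β : Cfsg.IrrCharacter (stab N H θ)) :
    ∃ χ : Cfsg.IrrCharacter G, Cfsg.charDegree (χ : G → ℂ) =
      (stab N H θ).index * Cfsg.charDegree θ * Cfsg.charDegree (β : stab N H θ → ℂ) := by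
  classical
  set I := inertia hN θ with hI
  have hle : N ≤ I := le_inertia hN (IsIrr.isClassFunction hθ)
  have hcI : (H.subgroupOf I).IsComplement' (N.subgroupOf I) := by
    refine Subgroup.isComplement'_of_disjoint_and_mul_eq_univ ?_ ?_
    · rw [disjoint_iff, Subgroup.eq_bot_iff_forall]
      rintro x ⟨hxH, hxN⟩
      exact Subtype.ext (Subgroup.mem_bot.mp (disjoint_iff.mp hc.disjoint ▸ ⟨hxH, hxN⟩))
    · refine Set.eq_univ_of_forall fun x => ?_
      obtain ⟨⟨⟨h, hh⟩, ⟨n, hn⟩⟩, hx⟩ := hc.2 (x : G)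
      have hhI : h ∈ I := by
        have hx' : h * n = (x : G) := hx
        rw [show h = (x : G) * n⁻¹ by rw [← hx']; group]
        exact I.mul_mem x.2 (I.inv_mem (hle hn))
      exact ⟨⟨h, hhI⟩, hh, ⟨n, hle hn⟩, hn, Subtype.ext hx⟩
  let e : (H.subgroupOf I) ≃* stab N H θ :=
    { toFun := fun x => ⟨⟨(x : I), x.2⟩, (x : I).2⟩
      invFun := fun x => ⟨⟨(x : H), x.2⟩, (x : H).2⟩
      left_inv := fun x => rfl
      right_inv := fun x => rfl
      map_mul' := fun x y => rfl }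
  let β₀ : Cfsg.IrrCharacter (H.subgroupOf I) := ⟨_, IsIrr.comp_surjective e.toMonoidHom e.surjective β.2⟩
  have hβ : Cfsg.charDegree (β₀ : H.subgroupOf I → ℂ) = Cfsg.charDegree (β : stab N H θ → ℂ) := by
    refine charDegree_eq_of_apply_one ?_
    show (β : stab N H θ → ℂ) (e 1) = _
    rw [map_one, cast_irrDegree]
  haveI : (N.subgroupOf I).Normal := hN.subgroupOf I
  let e' : N.subgroupOf I ≃* N := Subgroup.subgroupOfEquivOfLe hle
  have hθ' : Cfsg.IsIrrCharacter (N.subgroupOf I) fun n => θ ⟨(n : I), n.2⟩ :=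
    IsIrr.comp_surjective e'.toMonoidHom e'.surjective hθ
  obtain ⟨ψ, hψ⟩ := exists_twist hcI hθ' (hext I hle (fun g hg => hg) hcI) β₀
  have hres : resTo hle (ψ : I → ℂ) = (Cfsg.charDegree (β : stab N H θ → ℂ) : ℂ) • θ := funext fun n => by
    have h := hψ ⟨⟨n, hle n.2⟩, n.2⟩
    rw [hβ] at h
    exact h
  have hne : Cfsg.classInner (resTo hle (ψ : I → ℂ)) θ ≠ 0 := by
    rw [hres, classInner_smul_left, show Cfsg.classInner θ θ = 1 from classInner_irr_self ⟨θ, hθ⟩, mul_one,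
      Nat.cast_ne_zero]
    exact (charDegree_pos β).ne'
  refine ⟨⟨_, isIrr_indFun_of_over hN hθ (fun g => mem_inertia) hle ψ.2 hne⟩, charDegree_eq_of_apply_one ?_⟩
  show Cfsg.indFun I (ψ : I → ℂ) 1 = _
  rw [indFun_apply_one, index_inertia hc hθ]
  have h1 := congrFun hres 1
  simp only [resTo, Pi.smul_apply, smul_eq_mul] at h1
  rw [show (ψ : I → ℂ) 1 = (ψ : I → ℂ) ⟨((1 : N) : G), hle (1 : N).2⟩ from rfl, h1,
    show θ 1 = (Cfsg.charDegree θ : ℂ) from (cast_irrDegree ⟨θ, hθ⟩).symm]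
  push_cast
  ring

/-- A subgroup with normal Sylow subgroup and index prime to the prime contains one Sylow subgroup. -/
theorem existsUnique_sylow_le {K : Type*} [Group K] [Finite K] {q : ℕ} [Fact q.Prime] (S : Subgroup K)
    (hi : ¬ q ∣ S.index) (hn : ∀ P : Sylow q S, (P : Subgroup S).Normal) :
    ∃! P : Sylow q K, (P : Subgroup K) ≤ S := by
  obtain ⟨P₀⟩ : Nonempty (Sylow q S) := inferInstance
  have hp : IsPGroup q ((P₀ : Subgroup S).map S.subtype) := P₀.2.map _
  have hidx : ¬ q ∣ ((P₀ : Subgroup S).map S.subtype).index := by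
    rw [Subgroup.index_map_subtype]
    exact fun h => ((Fact.out : q.Prime).dvd_mul.mp h).elim P₀.not_dvd_index hi
  let P : Sylow q K := hp.toSylow hidx
  have hP : (P : Subgroup K) = (P₀ : Subgroup S).map S.subtype := hp.toSylow_coe hidx
  refine ⟨P, hP.le.trans (Subgroup.map_subtype_le _), fun P' hP' => ?_⟩
  have hu : Subsingleton (Sylow q S) := by
    refine ⟨fun a b => ?_⟩
    haveI := hn a
    obtain ⟨g, rfl⟩ := MulAction.exists_smul_eq S a b
    exact (Sylow.smul_eq_of_normal).symm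
  refine Sylow.ext ?_
  rw [hP, ← Subsingleton.elim (P'.subtype hP') P₀, Sylow.coe_subtype, Subgroup.map_subgroupOf_eq_of_le hP']

/-- A prime missing all these degrees puts exactly one Sylow subgroup into the stabiliser. -/
theorem unique_sylow_of_degrees [Group.IsSolvable G] (hc : H.IsComplement' N) [Fintype N] {θ : N → ℂ}
    (hθ : Cfsg.IsIrrCharacter N θ)
    (hext : ∀ I : Subgroup G, (hle : N ≤ I) → (∀ g ∈ I, conjFn hN θ g = θ) →
      (H.subgroupOf I).IsComplement' (N.subgroupOf I) → ∃ χ₀, Cfsg.IsIrrCharacter I χ₀ ∧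
        ∀ n : N.subgroupOf I, χ₀ n = θ ⟨(n : I), n.2⟩)
    {q : ℕ} [Fact q.Prime] {s : ℕ} (hs : s ∣ (stab N H θ).index * Cfsg.charDegree θ)
    (hno : ∀ χ : Cfsg.IrrCharacter G, s ∣ Cfsg.charDegree (χ : G → ℂ) → ¬ q ∣ Cfsg.charDegree (χ : G → ℂ)) :
    (∃! P : Sylow q H, (P : Subgroup H) ≤ stab N H θ) ∧
      ∀ P : Sylow q H, (P : Subgroup H) ≤ stab N H θ →
        ((P : Subgroup H).subgroupOf (stab N H θ)).Normal ∧ IsMulCommutative (P : Subgroup H) := by
  classical
  set S := stab N H θ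
  haveI := Fintype.ofFinite S
  have hall : ∀ β : Cfsg.IrrCharacter S,
      ¬ q ∣ S.index * Cfsg.charDegree θ * Cfsg.charDegree (β : S → ℂ) := fun β hd => by
    obtain ⟨χ, hχ⟩ := exists_degree hc hθ hext β
    exact hno χ (hχ ▸ hs.mul_right _) (hχ ▸ hd)
  have hdeg : ∀ β : Cfsg.IrrCharacter S, ¬ q ∣ Cfsg.charDegree (β : S → ℂ) := fun β h => hall β (h.mul_left _)
  have hi : ¬ q ∣ S.index := fun h =>
    hall ⟨_, isIrrCharacter_one⟩ ((h.mul_right _).mul_right _)
  have hito : ∀ P : Sylow q S, (P : Subgroup S).Normal ∧ IsMulCommutative P := fun P =>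
    (itoMichler (Or.inr inferInstance) P).mpr hdeg
  refine ⟨existsUnique_sylow_le S hi fun P => (hito P).1, fun P hP => ?_⟩
  obtain ⟨hn, hab⟩ := hito (P.subtype hP)
  rw [Sylow.coe_subtype] at hn
  refine ⟨hn, ⟨⟨fun a b => Subtype.ext ?_⟩⟩⟩
  have h := hab.is_comm.comm ⟨⟨a, hP a.2⟩, a.2⟩ ⟨⟨b, hP b.2⟩, b.2⟩
  have h' := congrArg (fun z => ((z : stab N H θ) : H)) (congrArg Subtype.val h)
  exact Subtype.ext_iff.mp (Subtype.ext h' : a * b = b * a)

end Over

section FixedOver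

open CfsgLib.Char.OddSection

variable {K : Type*} [Group K] [Fintype K] {L : Subgroup K} [hLn : L.Normal] {φ : L → ℂ} [Fintype L]

/-- A coprime group of operators fixing `φ` fixes a character over `φ` in an abelian section. -/
theorem exists_fixed_over {S : Type*} [Group S] [Fintype S] (a : S →* MulAut K)
    (hab : ∀ x y : K, x * y * x⁻¹ * y⁻¹ ∈ L) (hφ : Cfsg.IsIrrCharacter L φ)
    (hcop : (Nat.card K).Coprime (Nat.card S)) (haL : ∀ s, ∀ l ∈ L, a s l ∈ L)
    (hφs : ∀ s (l : L), φ ⟨a s l, haL s l l.2⟩ = φ l)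
    (θ : Cfsg.IrrCharacter K) {e : ℕ} (hθ : ∀ l : L, (θ : K → ℂ) l = (e : ℂ) * φ l) :
    ∃ θ₀ : Cfsg.IrrCharacter K, (∀ l : L, (θ₀ : K → ℂ) l = (e : ℂ) * φ l) ∧
      ∀ s k, (θ₀ : K → ℂ) (a s k) = (θ₀ : K → ℂ) k := by
  classical
  have hsymm : ∀ s, ∀ l ∈ L, (a s⁻¹) l ∈ L := fun s => haL s⁻¹
  let act : S → linHoms L →* linHoms L := fun s =>
    { toFun := fun f => ⟨fun k => f.1 (a s⁻¹ k), fun x y => by simp only [map_mul, linHoms.map_mul],
        fun l hl => linHoms.map_of_mem f (hsymm s l hl)⟩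
      map_one' := rfl
      map_mul' := fun _ _ => rfl }
  have hcop' : (Nat.card K).Coprime (Fintype.card S) := by rwa [← Nat.card_eq_fintype_card]
  let B : Subgroup (linHoms L) :=
    { carrier := {f | ∀ k, (f.1 k : ℂ) * (θ : K → ℂ) k = (θ : K → ℂ) k}
      one_mem' := fun k => one_mul _
      mul_mem' := fun {f g} hf hg k => by
        show ((f.1 k * g.1 k : ℂˣ) : ℂ) * _ = _
        rw [Units.val_mul, mul_assoc, hg k, hf k]
      inv_mem' := fun {f} hf k => by
        show (((f.1 k)⁻¹ : ℂˣ) : ℂ) * _ = _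
        conv_lhs => rw [← hf k, ← mul_assoc, Units.inv_mul, one_mul] }
  have heq : ∀ f g : linHoms L,
      (f⁻¹ * g ∈ B ↔ ∀ k, (g.1 k : ℂ) * (θ : K → ℂ) k = (f.1 k : ℂ) * (θ : K → ℂ) k) := by
    intro f g
    refine forall_congr' fun k => ?_
    show ((((f.1 k)⁻¹ * g.1 k : ℂˣ)) : ℂ) * _ = _ ↔ _
    rw [Units.val_mul, mul_assoc, Units.inv_mul_eq_iff_eq_mul]
  have hc : ∀ s, ∃ f : linHoms L, ∀ k, (θ : K → ℂ) (a s⁻¹ k) = (f.1 k : ℂ) * (θ : K → ℂ) k := fun s =>
    exists_twist_eq hab hφ θ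
      ⟨_, IsIrr.comp_surjective (a s⁻¹).toMonoidHom (a s⁻¹).surjective θ.2⟩ hθ
      (e' := e) fun l => (hθ ⟨a s⁻¹ l, haL s⁻¹ l l.2⟩).trans (by rw [hφs])
  choose g hg using hc
  obtain ⟨ν, -, hν⟩ := exists_cocycle_fix act ⊤ B linHoms.pow_card hcop' g
    (fun s => Subgroup.mem_top _) (fun s t => (heq _ _).mpr fun k => by
      rw [← hg (s * t) k, mul_inv_rev, map_mul]
      show _ = (θ : K → ℂ) (a t⁻¹ (a s⁻¹ k))
      rw [hg t, hg s]
      show ((((g t).1 (a s⁻¹ k)) * (g s).1 k : ℂˣ) : ℂ) * _ = _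
      rw [Units.val_mul, mul_assoc])
  refine ⟨⟨_, isIrrCharacter_twist (L := L) θ.2 ν⟩, fun l => ?_, fun s k => ?_⟩
  · show (ν.1 l : ℂ) * (θ : K → ℂ) l = _
    rw [linHoms.map_of_mem ν l.2, Units.val_one, one_mul, hθ]
  · have h := hν s⁻¹
    rw [mul_assoc] at h
    have h2 := (heq _ _).mp h k
    change (((act s⁻¹ ν).1 k * (g s⁻¹).1 k : ℂˣ) : ℂ) * (θ : K → ℂ) k = _ at h2
    rw [Units.val_mul, mul_assoc, ← hg s⁻¹ k] at h2
    change (ν.1 (a s⁻¹⁻¹ k) : ℂ) * (θ : K → ℂ) (a s⁻¹⁻¹ k) = _ at h2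
    rwa [inv_inv] at h2

end FixedOver

section Cyclic

variable {G : Type*} [Group G] [Finite G]

/-- Every character of a subgroup lies below one of the group. -/
theorem exists_above [Fintype G] (N : Subgroup G) [Fintype N] {θ : N → ℂ} (hθ : Cfsg.IsIrrCharacter N θ) :
    ∃ χ : Cfsg.IrrCharacter G, Cfsg.classInner (fun n : N => (χ : G → ℂ) n) θ ≠ 0 := by
  classical
  have hne : Cfsg.indFun N θ ≠ 0 := fun h => by
    have h1 := congrFun h 1
    rw [indFun_apply_one, Pi.zero_apply, mul_eq_zero] at h1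
    rcases h1 with h1 | h1
    · exact Subgroup.index_ne_zero_of_finite (Nat.cast_eq_zero.mp h1)
    · exact IsIrr.apply_one_ne_zero hθ h1
  obtain ⟨χ, hχ⟩ := Clifford.exists_constituent (isClassFunction_indFun N θ) hne
  refine ⟨χ, fun h => hχ ?_⟩
  rw [frobenius_reciprocity N _ (IsIrr.isClassFunction χ.2), ← classInner_conj_symm, h, map_zero]

/-- A cyclic normal subgroup yields a degree divisible by the index of its centraliser. -/
theorem exists_dvd_of_cyclic [Fintype G] (A : Subgroup G) [hA : A.Normal] [IsCyclic A] :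
    ∃ χ : Cfsg.IrrCharacter G, (centralizer (A : Set G)).index ∣ Cfsg.charDegree (χ : G → ℂ) := by
  classical
  haveI := Fintype.ofFinite A
  obtain ⟨a, ha⟩ := IsCyclic.exists_generator (α := A)
  obtain ⟨l, hl⟩ : ∃ l : A →* ℂˣ, Function.Injective l := by
    have hA0 : Nat.card A ≠ 0 := Nat.card_pos.ne'
    obtain ⟨ζ, hζ⟩ := HasEnoughRootsOfUnity.exists_primitiveRoot ℂ (Nat.card A)
    let u := (hζ.isUnit hA0).unit
    have hu : orderOf u = orderOf a := by
      rw [orderOf_eq_card_of_forall_mem_zpowers ha, ← orderOf_units]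
      exact hζ.eq_orderOf.symm
    refine ⟨monoidHomOfForallMemZpowers ha hu.dvd, fun x y h => ?_⟩
    obtain ⟨i, rfl⟩ := ha x
    obtain ⟨j, rfl⟩ := ha y
    simp only [map_zpow, monoidHomOfForallMemZpowers_apply_gen] at h
    rw [zpow_eq_zpow_iff_modEq, hu] at h
    exact zpow_eq_zpow_iff_modEq.mpr h
  let θ : A → ℂ := fun x => (l x : ℂ)
  have hθ : Cfsg.IsIrrCharacter A θ := isIrrCharacter_linear l
  obtain ⟨χ, hχ⟩ := exists_above A hθ
  have hI : inertia hA θ = centralizer (A : Set G) := by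
    ext g
    rw [mem_inertia, mem_centralizer_iff]
    constructor
    · intro h x hx
      have h1 := hl (Units.ext (congrFun h ⟨x, hx⟩))
      have h2 : g * x * g⁻¹ = x := congrArg Subtype.val h1
      rw [mul_inv_eq_iff_eq_mul] at h2
      exact h2.symm
    · exact fun h => funext fun x => congrArg θ (Subtype.ext (by
        show g * x * g⁻¹ = x
        rw [← h x x.2, mul_assoc, mul_inv_cancel, mul_one]))
  haveI := Fintype.ofFinite (inertia hA θ)
  obtain ⟨ψ, hψ, -, -, hind⟩ := exists_over_inertia hA hθ (fun g => mem_inertia)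
    (le_inertia hA (IsIrr.isClassFunction hθ)) χ hχ
  refine ⟨χ, hI ▸ Dvd.intro (Cfsg.charDegree ψ) ?_⟩
  symm
  refine charDegree_eq_of_apply_one ?_
  rw [← hind, indFun_apply_one, Nat.cast_mul, cast_charDegree (IsIrr.isCharacter hψ)]

end Cyclic

end CfsgLib.CharDegree.ThreePrimes
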