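import Cfsg.Agent.Lib.CharDegree.ThreePrimes.Count
import Cfsg.Agent.Lib.CharDegree.ThreePrimes.Degrees

/-!
# Actions on abelian groups of prime exponent

* `dualAct`: the action on linear characters
* `exists_dim_of_action`: the arithmetic of unique fixing Sylow subgroups
* `exists_degree_of_two`: two such primes divide the degree of a character of the acting group
-/

set_option autoImplicit false
set_option linter.all false

namespace CfsgLib.CharDegree.ThreePrimes

open Subgroup CfsgLib.Char

section Dual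

variable {H K : Type*} [Group H] [Group K]

/-- The contragredient action on linear characters. -/
def dualAct (a : H →* MulAut K) : H →* MulAut (K →* ℂˣ) where
  toFun h :=
    { toFun := fun μ => μ.comp (a h⁻¹).toMonoidHom
      invFun := fun μ => μ.comp (a h).toMonoidHom
      left_inv := fun μ => MonoidHom.ext fun k => by
        show μ (a h⁻¹ (a h k)) = μ k
        rw [← MulAut.mul_apply, ← map_mul, inv_mul_cancel, map_one, MulAut.one_apply]
      right_inv := fun μ => MonoidHom.ext fun k => by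
        show μ (a h (a h⁻¹ k)) = μ k
        rw [← MulAut.mul_apply, ← map_mul, mul_inv_cancel, map_one, MulAut.one_apply]
      map_mul' := fun μ ν => rfl }
  map_one' := MulEquiv.ext fun μ => MonoidHom.ext fun k => by
    show μ (a (1 : H)⁻¹ k) = μ k
    rw [inv_one, map_one, MulAut.one_apply]
  map_mul' g h := MulEquiv.ext fun μ => MonoidHom.ext fun k => by
    show μ (a (g * h)⁻¹ k) = μ (a h⁻¹ (a g⁻¹ k))
    rw [mul_inv_rev, map_mul, MulAut.mul_apply]

theorem dualAct_apply (a : H →* MulAut K) (h : H) (μ : K →* ℂˣ) (k : K) :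
    dualAct a h μ k = μ (a h⁻¹ k) := rfl

theorem dualAct_eq_self_iff (a : H →* MulAut K) (h : H) (μ : K →* ℂˣ) :
    dualAct a h μ = μ ↔ ∀ k, μ (a h k) = μ k := by
  constructor
  · intro hh k
    have := DFunLike.congr_fun hh (a h k)
    rw [dualAct_apply, ← MulAut.mul_apply, ← map_mul, inv_mul_cancel, map_one, MulAut.one_apply] at this
    exact this.symm
  · intro hh
    refine MonoidHom.ext fun k => ?_
    rw [dualAct_apply, ← hh, ← MulAut.mul_apply, ← map_mul, mul_inv_cancel, map_one, MulAut.one_apply]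

instance finite_linChar [Finite K] : Finite (K →* ℂˣ) := by
  let n := Nat.card K
  haveI : NeZero n := ⟨Nat.card_pos.ne'⟩
  haveI := Fintype.ofFinite K
  refine Finite.of_injective (β := K → rootsOfUnity n ℂ)
    (fun μ k => ⟨μ k, by rw [mem_rootsOfUnity, ← map_pow, pow_card_eq_one', map_one]⟩) fun μ ν h =>
      MonoidHom.ext fun k => congrArg Subtype.val (congrFun h k)

end Dual

section Bridge

variable {H : Type*} [Group H] [Finite H] {D : Type*} [CommGroup D] [Finite D] [Nontrivial D]
  {t : ℕ} [Fact t.Prime] (hexp : ∀ d : D, d ^ t = 1) (φ : H →* MulAut D)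

/-- A linearised form of an action on an abelian group with a module structure over `ZMod t`. -/
def linAct [Module (ZMod t) (Additive D)] : H →* (Additive D ≃ₗ[ZMod t] Additive D) where
  toFun g := (MulEquiv.toAdditive (φ g)).toLinearEquiv fun c x =>
    ZMod.map_smul (MulEquiv.toAdditive (φ g)) c x
  map_one' := LinearEquiv.ext fun d => congrArg Additive.ofMul (MulEquiv.congr_fun (map_one φ) d.toMul)
  map_mul' g h :=
    LinearEquiv.ext fun d => congrArg Additive.ofMul (MulEquiv.congr_fun (map_mul φ g h) d.toMul)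

theorem linAct_apply [Module (ZMod t) (Additive D)] (g : H) (d : D) :
    linAct (t := t) φ g (Additive.ofMul d) = Additive.ofMul (φ g d) := rfl

include hexp

theorem nonempty_module : Nonempty (Module (ZMod t) (Additive D)) :=
  ⟨AddCommGroup.zmodModule fun x => congrArg Additive.ofMul (hexp x.toMul)⟩

/-- The arithmetic of unique fixing Sylow subgroups. -/
theorem exists_dim_of_action {u : ℕ} [Fact u.Prime]
    (hmove : ∀ P : Sylow u H, ∃ g ∈ (P : Subgroup H), ∃ d, φ g d ≠ d)
    (hex : ∀ d : D, d ≠ 1 → ∃! P : Sylow u H, ∀ g ∈ (P : Subgroup H), φ g d = d) :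
    ∃ w n : ℕ, 0 < w ∧ w ∣ n ∧ 2 * w ≤ n ∧ Nat.card D = t ^ n ∧
      Nat.card (Sylow u H) * (t ^ w - 1) = t ^ n - 1 := by
  obtain ⟨inst⟩ := nonempty_module hexp
  let ρ := linAct (t := t) φ
  have hρ : ∀ g d, ρ g (Additive.ofMul d) = Additive.ofMul (φ g d) := linAct_apply φ
  have hiff : ∀ (P : Subgroup H) (v : Additive D),
      v ∈ fixSub ρ P ↔ ∀ g ∈ P, φ g v.toMul = v.toMul := fun P v =>
    forall₂_congr fun g _ => by
      rw [show v = Additive.ofMul v.toMul from rfl, hρ]
      exact Iff.rfl
  obtain ⟨w, h0, hd, h2, heq⟩ := exists_dim ρ (u := u)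
    (fun P => by
      obtain ⟨g, hg, d, hd⟩ := hmove P
      refine ⟨g, hg, fun h => hd ?_⟩
      have := LinearEquiv.congr_fun h (Additive.ofMul d)
      rw [hρ] at this
      exact this)
    (fun v hv => by simpa only [hiff] using hex v.toMul fun h => hv h)
  refine ⟨w, _, h0, hd, h2, ?_, heq⟩
  rw [← Nat.card_congr (Additive.ofMul (α := D)).symm, Module.natCard_eq_pow_finrank (K := ZMod t),
    Nat.card_zmod]

/-- Two primes with unique fixing Sylow subgroups divide one character degree. -/
theorem exists_degree_of_two [Group.IsSolvable H] {q r : ℕ} [Fact q.Prime] [Fact r.Prime] (hqr : q ≠ r)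
    (hmq : ∀ P : Sylow q H, ∃ g ∈ (P : Subgroup H), ∃ d, φ g d ≠ d)
    (hmr : ∀ P : Sylow r H, ∃ g ∈ (P : Subgroup H), ∃ d, φ g d ≠ d)
    (hQ : ∀ d : D, d ≠ 1 → ∃! P : Sylow q H, ∀ g ∈ (P : Subgroup H), φ g d = d)
    (hR : ∀ d : D, d ≠ 1 → ∃! P : Sylow r H, ∀ g ∈ (P : Subgroup H), φ g d = d) :
    ∃ χ : Cfsg.IrrCharacter H, q ∣ Cfsg.charDegree (χ : H → ℂ) ∧ r ∣ Cfsg.charDegree (χ : H → ℂ) := by
  classical
  obtain ⟨inst⟩ := nonempty_module hexp
  let ρ := linAct (t := t) φ
  have hρ : ∀ g d, ρ g (Additive.ofMul d) = Additive.ofMul (φ g d) := linAct_apply φ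
  let σ : ρ.range →* (Additive D ≃ₗ[ZMod t] Additive D) := ρ.range.subtype
  have hf : Function.Surjective ρ.rangeRestrict := ρ.rangeRestrict_surjective
  haveI : Finite ρ.range := Finite.of_surjective _ hf
  have main : ∀ (u : ℕ) [Fact u.Prime], (∀ P : Sylow u H, ∃ g ∈ (P : Subgroup H), ∃ d, φ g d ≠ d) →
      (∀ d : D, d ≠ 1 → ∃! P : Sylow u H, ∀ g ∈ (P : Subgroup H), φ g d = d) →
      u ∣ Nat.card ρ.range ∧
        ∀ v : Additive D, v ≠ 0 → ∃! P : Sylow u ρ.range, v ∈ fixSub σ (P : Subgroup ρ.range) := by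
    intro u _ hm hU
    constructor
    · obtain ⟨P₀⟩ : Nonempty (Sylow u H) := inferInstance
      obtain ⟨g, hg, d, hd⟩ := hm P₀
      have hne : (P₀.mapSurjective hf : Subgroup ρ.range) ≠ ⊥ := by
        intro h
        have h1 : ρ.rangeRestrict g ∈ (P₀.mapSurjective hf : Subgroup ρ.range) := by
          rw [Sylow.coe_mapSurjective]
          exact ⟨g, hg, rfl⟩
        rw [h, Subgroup.mem_bot] at h1
        refine hd ?_
        have := LinearEquiv.congr_fun (congrArg Subtype.val h1) (Additive.ofMul d)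
        rw [MonoidHom.coe_rangeRestrict, hρ] at this
        exact this
      rcases (P₀.mapSurjective hf).2.card_eq_or_dvd with h | h
      · exact absurd (Subgroup.card_eq_one.mp h) hne
      · exact h.trans (Subgroup.card_subgroup_dvd_card _)
    · intro v hv
      have hiff : ∀ P : Sylow u H, v ∈ fixSub σ (P.mapSurjective hf : Subgroup ρ.range) ↔
          ∀ g ∈ (P : Subgroup H), φ g v.toMul = v.toMul := by
        intro P
        rw [mem_fixSub, Sylow.coe_mapSurjective]
        constructor
        · intro h g hg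
          have := h _ ⟨g, hg, rfl⟩
          change ρ g v = v at this
          rw [show v = Additive.ofMul v.toMul from rfl, hρ] at this
          exact this
        · rintro h _ ⟨g, hg, rfl⟩
          show ρ g v = v
          rw [show v = Additive.ofMul v.toMul from rfl, hρ, h g hg]
      obtain ⟨P, hP, hPu⟩ := hU v.toMul fun h => hv h
      refine ⟨P.mapSurjective hf, (hiff P).mpr hP, fun Q hQ => ?_⟩
      obtain ⟨P', rfl⟩ := Sylow.mapSurjective_surjective hf u Q
      rw [hPu P' ((hiff P').mp hQ)]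
  obtain ⟨hqG, hQ'⟩ := main q hmq hQ
  obtain ⟨hrG, hR'⟩ := main r hmr hR
  haveI : Group.IsSolvable ρ.range := Group.isSolvable_of_surjective hf
  obtain ⟨A, hA, hAc, hAq, hAr⟩ := exists_cyclic σ ρ.range.subtype_injective hqr hqG hrG hQ' hR'
  haveI := hA
  haveI := hAc
  haveI := Fintype.ofFinite ρ.range
  obtain ⟨χ, hχ⟩ := exists_dvd_of_cyclic A
  refine ⟨⟨_, IsIrr.comp_surjective ρ.rangeRestrict hf χ.2⟩, ?_⟩
  have he : Cfsg.charDegree (fun g => (χ : ρ.range → ℂ) (ρ.rangeRestrict g)) =
      Cfsg.charDegree (χ : ρ.range → ℂ) := by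
    refine charDegree_eq_of_apply_one ?_
    rw [map_one, cast_irrDegree]
  constructor <;> refine Dvd.dvd.trans ?_ (he ▸ hχ) <;> assumption

end Bridge

end CfsgLib.CharDegree.ThreePrimes
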