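import Cfsg.Agent.Lib.Recog.Huppert.Main
import Cfsg.Agent.S4345
import Mathlib.GroupTheory.Sylow

/-!
# Linear groups in which every vector is fixed by a unique Sylow subgroup

* `exists_dim`: the fixed spaces partition the non-zero vectors, so the Sylow number is a quotient
  `(p ^ n - 1) / (p ^ w - 1)` with `w ∣ n` and `2 * w ≤ n`
* `exists_cyclic`: if this happens for two primes in a solvable group, then some cyclic normal subgroup
  has a centralizer whose index both primes divide
-/

set_option autoImplicit false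
set_option linter.all false

namespace CfsgLib.CharDegree.ThreePrimes

open Subgroup

/-- The divisibility of `a ^ n - 1` by `a ^ w - 1` forces `w ∣ n`. -/
theorem dvd_of_pow_sub_one_dvd {a w n : ℕ} (ha : 1 < a) (hw : 0 < w) (h : a ^ w - 1 ∣ a ^ n - 1) :
    w ∣ n := by
  have h1 : Nat.gcd (a ^ w - 1) (a ^ n - 1) = a ^ w - 1 := Nat.gcd_eq_left h
  rw [Nat.pow_sub_one_gcd_pow_sub_one] at h1
  have h2 : a ^ Nat.gcd w n = a ^ w := by
    have := Nat.one_le_pow (Nat.gcd w n) a (by omega)
    have := Nat.one_le_pow w a (by omega)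
    omega
  exact Nat.gcd_eq_left_iff_dvd.mp (Nat.pow_right_injective ha h2)

section Fix

variable {p : ℕ} [Fact p.Prime] {V : Type*} [AddCommGroup V] [Module (ZMod p) V]
  {G : Type*} [Group G] (ρ : G →* (V ≃ₗ[ZMod p] V))

/-- The fixed vectors of a subgroup. -/
def fixSub (P : Subgroup G) : Submodule (ZMod p) V where
  carrier := {v | ∀ g ∈ P, ρ g v = v}
  add_mem' {a b} ha hb g hg := by rw [map_add, ha g hg, hb g hg]
  zero_mem' g _ := map_zero _
  smul_mem' c a ha g hg := by rw [map_smul, ha g hg]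

theorem mem_fixSub {P : Subgroup G} {v : V} : v ∈ fixSub ρ P ↔ ∀ g ∈ P, ρ g v = v := Iff.rfl

variable [Finite V] [Nontrivial V] [Finite G] {u : ℕ} [Fact u.Prime]

/-- The arithmetic of the partition by the fixed spaces. -/
theorem exists_dim (hmove : ∀ P : Sylow u G, ∃ g ∈ (P : Subgroup G), ρ g ≠ 1)
    (hex : ∀ v : V, v ≠ 0 → ∃! P : Sylow u G, v ∈ fixSub ρ P) :
    ∃ w : ℕ, 0 < w ∧ w ∣ Module.finrank (ZMod p) V ∧ 2 * w ≤ Module.finrank (ZMod p) V ∧
      Nat.card (Sylow u G) * (p ^ w - 1) = p ^ Module.finrank (ZMod p) V - 1 := by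
  classical
  obtain ⟨v₀, hv₀⟩ := exists_ne (0 : V)
  obtain ⟨P₀, hP₀, -⟩ := hex v₀ hv₀
  set W := fixSub ρ (P₀ : Subgroup G) with hW
  set w := Module.finrank (ZMod p) W with hw
  set n := Module.finrank (ZMod p) V with hn
  have hp : p.Prime := Fact.out
  have hcard : ∀ S : Submodule (ZMod p) V, Nat.card S = p ^ Module.finrank (ZMod p) S := fun S => by
    rw [Module.natCard_eq_pow_finrank (K := ZMod p), Nat.card_zmod]
  have hV : Nat.card V = p ^ n := by
    rw [Module.natCard_eq_pow_finrank (K := ZMod p), Nat.card_zmod]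
  -- all the fixed spaces are translates
  have htrans : ∀ P : Sylow u G, ∃ g : G, ∀ v, v ∈ fixSub ρ (P : Subgroup G) ↔ ρ g v ∈ W := by
    intro P
    obtain ⟨g, hg⟩ := MulAction.exists_smul_eq G P P₀
    refine ⟨g, fun v => ?_⟩
    rw [hW, mem_fixSub, mem_fixSub, ← hg, Sylow.coe_subgroup_smul]
    constructor
    · intro h x hx
      rw [Subgroup.mem_pointwise_smul_iff_inv_smul_mem] at hx
      have h1 := h _ hx
      rw [MulAut.smul_def, MulAut.conj_inv_apply, map_mul, map_mul] at h1
      have h2 := congrArg (ρ g) h1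
      simp only [LinearEquiv.mul_apply] at h2
      rw [← LinearEquiv.mul_apply, ← map_mul, mul_inv_cancel, map_one] at h2
      simpa using h2
    · intro h x hx
      have h1 := h (g * x * g⁻¹) (Subgroup.mem_pointwise_smul_iff_inv_smul_mem.mpr (by
        rw [MulAut.smul_def, MulAut.conj_inv_apply]; simpa [mul_assoc] using hx))
      rw [← LinearEquiv.mul_apply, ← map_mul, show g * x * g⁻¹ * g = g * x by group, map_mul] at h1
      exact (ρ g).injective h1
  choose g hg using htrans
  let e : ∀ P : Sylow u G, {v : V // v ≠ 0 ∧ v ∈ fixSub ρ (P : Subgroup G)} ≃ {v : W // v ≠ 0} := fun P =>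
    { toFun := fun v => ⟨⟨ρ (g P) v.1, (hg P _).mp v.2.2⟩,
        fun h => v.2.1 ((LinearEquiv.map_eq_zero_iff _).mp (congrArg Subtype.val h))⟩
      invFun := fun v => ⟨(ρ (g P)).symm v.1.1,
        fun h => v.2 (Subtype.ext (by simpa using h)), (hg P _).mpr (by simp)⟩
      left_inv := fun v => Subtype.ext (by simp)
      right_inv := fun v => Subtype.ext (Subtype.ext (by simp)) }
  choose F hF hFu using hex
  let E : {v : V // v ≠ 0} ≃ Σ P : Sylow u G, {v : V // v ≠ 0 ∧ v ∈ fixSub ρ (P : Subgroup G)} :=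
    { toFun := fun v => ⟨F v.1 v.2, v.1, v.2, hF v.1 v.2⟩
      invFun := fun x => ⟨x.2.1, x.2.2.1⟩
      left_inv := fun v => rfl
      right_inv := fun ⟨P, v, hv, hvP⟩ => by
        obtain rfl := hFu v hv P hvP
        rfl }
  have hsum : Nat.card (Sylow u G) * (p ^ w - 1) = p ^ n - 1 := by
    have h1 := Nat.card_congr (E.trans (Equiv.sigmaCongrRight e) |>.trans (Equiv.sigmaEquivProd _ _))
    have h0 : ∀ (X : Type _) [Finite X] (z : X), Nat.card {x : X // x ≠ z} = Nat.card X - 1 := by
      intro X _ z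
      haveI := Fintype.ofFinite X
      rw [Nat.card_eq_fintype_card, Nat.card_eq_fintype_card, Fintype.card_subtype_compl,
        Fintype.card_subtype_eq]
    rw [h0, Nat.card_prod, h0, hV, hcard W] at h1
    exact h1.symm
  have hw0 : 0 < w := by
    rw [hw, Nat.pos_iff_ne_zero]
    intro h
    have : W = ⊥ := Submodule.finrank_eq_zero.mp h
    exact hv₀ ((Submodule.mem_bot _).mp (this ▸ hP₀))
  have hne : W ≠ ⊤ := by
    intro h
    obtain ⟨x, hx, hx1⟩ := hmove P₀
    exact hx1 (LinearEquiv.ext fun v => (show v ∈ W from h ▸ Submodule.mem_top) x hx)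
  have hn1 : Nat.card (Sylow u G) ≠ 1 := by
    intro h
    rw [h, one_mul] at hsum
    refine hne (Submodule.eq_top_of_finrank_eq ?_)
    have := Nat.one_le_pow w p hp.pos
    have := Nat.one_le_pow n p hp.pos
    exact Nat.pow_right_injective hp.two_le (by omega : p ^ w = p ^ n)
  haveI : Nontrivial (Sylow u G) := Finite.one_lt_card_iff_nontrivial.mp (by
    have : 0 < Nat.card (Sylow u G) := Nat.card_pos
    omega)
  obtain ⟨P₁, hP₁⟩ := exists_ne P₀
  refine ⟨w, hw0, dvd_of_pow_sub_one_dvd hp.one_lt hw0 (Dvd.intro_left _ hsum), ?_, hsum⟩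
  -- two of the fixed spaces meet trivially
  have hdis : W ⊓ fixSub ρ (P₁ : Subgroup G) = ⊥ := by
    rw [Submodule.eq_bot_iff]
    intro v hv
    by_contra hv0
    obtain ⟨h1, h2⟩ := Submodule.mem_inf.mp hv
    exact hP₁ ((hFu v hv0 P₁ h2).trans (hFu v hv0 P₀ h1).symm)
  have hw1 : Module.finrank (ZMod p) (fixSub ρ (P₁ : Subgroup G)) = w := by
    refine Nat.pow_right_injective hp.two_le ?_
    show p ^ _ = p ^ w
    rw [← hcard, ← hcard W]
    have h := Nat.card_congr (e P₁)
    let f : fixSub ρ (P₁ : Subgroup G) ≃ W :=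
      { toFun := fun v => ⟨ρ (g P₁) v.1, (hg P₁ _).mp v.2⟩
        invFun := fun v => ⟨(ρ (g P₁)).symm v.1, (hg P₁ _).mpr (by simp)⟩
        left_inv := fun v => Subtype.ext (by simp)
        right_inv := fun v => Subtype.ext (by simp) }
    exact Nat.card_congr f
  have h := Submodule.finrank_sup_add_finrank_inf_eq W (fixSub ρ (P₁ : Subgroup G))
  rw [hdis, finrank_bot, add_zero, hw1, ← hw] at h
  have h2 := Submodule.finrank_le (W ⊔ fixSub ρ (P₁ : Subgroup G))
  omega

omit [Finite V] [Nontrivial V] in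
/-- In a linear group every non-trivial Sylow subgroup moves something. -/
theorem moves_of_injective (hρ : Function.Injective ρ) (hu : u ∣ Nat.card G) (P : Sylow u G) :
    ∃ g ∈ (P : Subgroup G), ρ g ≠ 1 := by
  obtain ⟨x, hx, hx1⟩ := (Subgroup.bot_or_exists_ne_one _).resolve_left (P.ne_bot_of_dvd_card hu)
  exact ⟨x, hx, fun h => hx1 (hρ (h.trans (map_one ρ).symm))⟩

end Fix

section Two

variable {p : ℕ} [hp : Fact p.Prime] {V : Type*} [AddCommGroup V] [Module (ZMod p) V]
  [Finite V] [Nontrivial V] {G : Type*} [Group G] [Finite G] (ρ : G →* (V ≃ₗ[ZMod p] V))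

open CfsgLib.Recog.Huppert in
/-- Two primes with unique fixing Sylow subgroups in a solvable linear group both act non-trivially on a
cyclic normal subgroup. -/
theorem exists_cyclic [Group.IsSolvable G] (hρ : Function.Injective ρ) {q r : ℕ} [hq : Fact q.Prime]
    [hr : Fact r.Prime] (hqr : q ≠ r) (hqG : q ∣ Nat.card G) (hrG : r ∣ Nat.card G)
    (hQ : ∀ v : V, v ≠ 0 → ∃! P : Sylow q G, v ∈ fixSub ρ P)
    (hR : ∀ v : V, v ≠ 0 → ∃! P : Sylow r G, v ∈ fixSub ρ P) :
    ∃ A : Subgroup G, A.Normal ∧ IsCyclic A ∧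
      q ∣ (centralizer (A : Set G)).index ∧ r ∣ (centralizer (A : Set G)).index := by
  classical
  set n := Module.finrank (ZMod p) V with hn
  have hp2 := hp.out.two_le
  obtain ⟨a, ha0, han, ha2, hsa⟩ := exists_dim ρ (moves_of_injective ρ hρ hqG) hQ
  obtain ⟨b, hb0, hbn, hb2, hsb⟩ := exists_dim ρ (moves_of_injective ρ hρ hrG) hR
  rw [← hn] at han ha2 hsa hbn hb2 hsb
  have hsol : Group.IsSolvable G := inferInstance
  have hcong : ∀ (u : ℕ) [Fact u.Prime], (Nat.card (Sylow u G) : ZMod u) = 1 := fun u _ => by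
    have := (ZMod.natCast_eq_natCast_iff' _ 1 u).mpr (card_sylow_modEq_one u G)
    simpa using this
  -- dimension two
  by_cases h2 : n = 2
  · exfalso
    have key : ∀ (u : ℕ) [Fact u.Prime] (w : ℕ), 0 < w → 2 * w ≤ n →
        Nat.card (Sylow u G) * (p ^ w - 1) = p ^ n - 1 → u = p := by
      intro u _ w hw0 hw2 hs
      obtain rfl : w = 1 := by omega
      rw [h2, pow_one, show p ^ 2 - 1 = (p + 1) * (p - 1) by rw [← Nat.sq_sub_sq, one_pow]] at hs
      have hcard := Nat.eq_of_mul_eq_mul_right (by omega : 0 < p - 1) hs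
      have h1 := hcong u
      rw [hcard, Nat.cast_add, Nat.cast_one, add_eq_right, ZMod.natCast_eq_zero_iff] at h1
      · exact (Nat.prime_dvd_prime_iff_eq Fact.out hp.out).mp h1
    exact hqr ((key q a ha0 ha2 hsa).trans (key r b hb0 hb2 hsb).symm)
  have h3 : 3 ≤ n := by omega
  -- sixty-four vectors
  by_cases h26 : p = 2 ∧ n = 6
  · exfalso
    obtain ⟨hp', hn'⟩ := h26
    have key : ∀ (u : ℕ) [Fact u.Prime] (w : ℕ), 0 < w → 2 * w ≤ n →
        Nat.card (Sylow u G) * (p ^ w - 1) = p ^ n - 1 → u = 2 := by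
      intro u hu w hw0 hw2 hs
      rw [hp', hn'] at hs
      have h1 : (Nat.card (Sylow u G) - 1) % u = 0 :=
        Nat.sub_mod_eq_zero_of_mod_eq (card_sylow_modEq_one u G)
      have h3' := Cfsg.Agent.S4345.result hsol u 3 Nat.prime_three
      have hw' : w ≤ 3 := by omega
      have hcases : Nat.card (Sylow u G) = 63 ∨ Nat.card (Sylow u G) = 21 ∨ Nat.card (Sylow u G) = 9 := by
        interval_cases w <;> omega
      by_contra hu2
      rcases hcases with h | h | h <;> rw [h] at h1 h3'
      · have hd : u ∣ 62 := Nat.dvd_of_mod_eq_zero h1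
        have hf : Nat.factorization 63 3 = 2 := by
          rw [show 63 = 3 ^ 2 * 7 by norm_num, Nat.factorization_mul (by norm_num) (by norm_num),
            Finsupp.add_apply, Nat.factorization_eq_zero_of_not_dvd (by norm_num : ¬ 3 ∣ 7)]
          rw [Nat.prime_three.factorization_pow]
          simp
        rw [hf] at h3'
        have hd8 : u ∣ 8 := Nat.dvd_of_mod_eq_zero (Nat.sub_mod_eq_zero_of_mod_eq h3')
        exact hu2 ((Nat.prime_dvd_prime_iff_eq hu.out Nat.prime_two).mp
          ((Nat.dvd_gcd hd hd8).trans (by norm_num)))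
      · have hd : u ∣ 20 := Nat.dvd_of_mod_eq_zero h1
        have hf : Nat.factorization 21 3 = 1 := by
          rw [show 21 = 3 ^ 1 * 7 by norm_num, Nat.factorization_mul (by norm_num) (by norm_num),
            Finsupp.add_apply, Nat.factorization_eq_zero_of_not_dvd (by norm_num : ¬ 3 ∣ 7)]
          rw [Nat.prime_three.factorization_pow]
          simp
        rw [hf] at h3'
        have hd2 : u ∣ 2 := Nat.dvd_of_mod_eq_zero (Nat.sub_mod_eq_zero_of_mod_eq h3')
        exact hu2 ((Nat.prime_dvd_prime_iff_eq hu.out Nat.prime_two).mp hd2)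
      · have hd : u ∣ 2 ^ 3 := Nat.dvd_of_mod_eq_zero h1
        exact hu2 ((Nat.prime_dvd_prime_iff_eq hu.out Nat.prime_two).mp (hu.out.dvd_of_dvd_pow hd))
    exact hqr ((key q a ha0 ha2 hsa).trans (key r b hb0 hb2 hsb).symm)
  obtain ⟨l, hl, hld, hlk⟩ := CfsgLib.Zsigmondy.exists_primitive_prime_divisor (a := p) (n := n)
    hp.out.one_lt (by omega) h26 (fun h => by omega)
  haveI := Fact.mk hl
  obtain ⟨x, hx⟩ := exists_prime_orderOf_dvd_card' (G := G) l (by
    have h := hld
    rw [← hsa, hl.dvd_mul] at h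
    exact (h.resolve_right (hlk a ha0 (by omega))).trans
      ((Sylow.card_dvd_index (Classical.arbitrary (Sylow q G))).trans (Subgroup.index_dvd_card _)))
  rcases dichotomy hρ rfl h3 hl hld hlk hx with ⟨A, hAn, hA, hAf, hAfull⟩ |
    ⟨k, N, hN, hk2, hpo, hnk, hlk', hcard, hcomm, hexp, hax, hker⟩
  · -- semilinear
    letI : Field (adj ρ A) := (isField_adj ρ hA hAf).toField
    refine ⟨A, hAn, ?_, ?_⟩
    · let f : A →* adj ρ A :=
        { toFun := fun a => ⟨T ρ a, T_mem ρ a.2⟩
          map_one' := Subtype.ext (T_one ρ)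
          map_mul' := fun x y => Subtype.ext (T_mul ρ x y) }
      exact isCyclic_of_subgroup_isDomain f fun x y h =>
        Subtype.ext (T_injective ρ hρ (congrArg Subtype.val h))
    have hC : (centralizer (A : Set G)).Normal := inferInstance
    suffices key : ∀ (u : ℕ) [Fact u.Prime], u ∣ Nat.card G →
        (∀ v : V, v ≠ 0 → ∃! P : Sylow u G, v ∈ fixSub ρ P) → u ∣ (centralizer (A : Set G)).index from
      ⟨key q hqG hQ, key r hrG hR⟩
    intro u _ hu hU
    obtain ⟨v, hv⟩ := exists_ne (0 : V)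
    obtain ⟨P, hP, -⟩ := hU v hv
    have hinf : (P : Subgroup G) ⊓ centralizer (A : Set G) = ⊥ := by
      rw [Subgroup.eq_bot_iff_forall]
      rintro g ⟨hgP, hgC⟩
      refine hρ ?_
      rw [map_one]
      have h1 : T ρ g - 1 = 0 := hAf _ (Subalgebra.sub_mem _ (mem_adj_of_full ρ hA hAf hAfull hgC)
        (Subalgebra.one_mem _)) v hv (by
          rw [LinearMap.sub_apply, T_apply, Module.End.one_apply, hP g hgP, sub_self])
      refine LinearEquiv.ext fun z => ?_
      have h2 := LinearMap.congr_fun h1 z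
      rw [LinearMap.sub_apply, T_apply, Module.End.one_apply, LinearMap.zero_apply, sub_eq_zero] at h2
      exact h2
    refine (P.dvd_card_of_dvd_card hu).trans ?_
    have h1 : (centralizer (A : Set G)).relIndex (P : Subgroup G) = Nat.card (P : Subgroup G) := by
      rw [← Subgroup.inf_relIndex_right, inf_comm, hinf, Subgroup.relIndex_bot_left]
    rw [← h1]
    exact Subgroup.relIndex_dvd_index_of_normal _ _
  · -- the exceptional alternative
    exfalso
    replace hnk : n = 2 ^ k := hnk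
    letI : CommGroup (Qt N) := { (inferInstance : Group (Qt N)) with mul_comm := hcomm }
    let xb : (act N).range := ⟨act N x, x, rfl⟩
    have hxb : orderOf xb = 2 ^ k + 1 := by rw [← Subgroup.orderOf_coe]; exact hax.trans hlk'
    have hH : Nat.card (act N).range ∣ (2 ^ (2 * k) - 1) * (2 * k) :=
      card_dvd_aut hexp hk2 hcard _ (Group.isSolvable_of_surjective (act N).rangeRestrict_surjective)
        (hlk' ▸ hl) hxb
    have hGd : Nat.card G ∣ (p - 1) * 2 ^ (2 * k) * ((2 ^ (2 * k) - 1) * (2 * k)) := by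
      rw [← (act N).ker.card_mul_index, Subgroup.index_ker]
      exact mul_dvd_mul hker hH
    set m := 2 ^ (k - 1) with hm
    have hnm : n = 2 * m := by rw [hnk, hm, ← pow_succ', Nat.sub_add_cancel (by omega : 1 ≤ k)]
    have hm2 : 2 ∣ m := hm ▸ dvd_pow_self 2 (by omega)
    have hpodd : p % 2 = 1 := (Nat.Prime.eq_two_or_odd hp.out).resolve_left hpo
    have hp3 : 3 ≤ p := by omega
    -- `p ^ m + 1` divides each Sylow number
    have hdiv : p ^ m + 1 ∣ Nat.card (Sylow q G) ∧ p ^ m + 1 ∣ Nat.card (Sylow r G) := by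
      suffices key : ∀ (N w : ℕ), 0 < w → w ∣ n → 2 * w ≤ n → N * (p ^ w - 1) = p ^ n - 1 → p ^ m + 1 ∣ N from
        ⟨key _ a ha0 han ha2 hsa, key _ b hb0 hbn hb2 hsb⟩
      intro c w hw0 hwn hw2 hs
      obtain ⟨i, hik, rfl⟩ := (Nat.dvd_prime_pow Nat.prime_two).mp (hnk ▸ hwn)
      have hi : i ≤ k - 1 := by
        by_contra hc
        have : i = k := by omega
        subst this
        omega
      obtain ⟨d, hd⟩ := Nat.pow_sub_one_dvd_pow_sub_one p (pow_dvd_pow 2 hi : 2 ^ i ∣ m)
      have e1 : p ^ n - 1 = (p ^ m + 1) * (p ^ m - 1) := by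
        rw [hnm, pow_mul', ← Nat.sq_sub_sq, one_pow]
      rw [e1, hd, ← mul_assoc, mul_comm (p ^ m + 1), mul_assoc] at hs
      have hpos : 0 < p ^ 2 ^ i - 1 := by
        have := Nat.one_lt_pow (by positivity : (2 : ℕ) ^ i ≠ 0) hp.out.one_lt
        omega
      rw [mul_comm c] at hs
      exact ⟨d, Nat.eq_of_mul_eq_mul_left hpos hs⟩
    obtain ⟨M, hM⟩ : ∃ M, p ^ m + 1 = 2 * M ∧ M % 2 = 1 := by
      obtain ⟨j, hj⟩ := hm2
      have h4 : p ^ m % 4 = 1 := by
        rw [hj, pow_mul, Nat.pow_mod]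
        have : p ^ 2 % 4 = 1 := by
          rw [Nat.pow_mod]
          have : p % 4 = 1 ∨ p % 4 = 3 := by omega
          rcases this with h | h <;> rw [h] <;> rfl
        rw [this, one_pow]
        rfl
      exact ⟨(p ^ m + 1) / 2, by omega, by omega⟩
    have hMd : M ∣ (2 ^ (2 * k) - 1) * k := by
      have h1 : p ^ m + 1 ∣ (p - 1) * 2 ^ (2 * k) * ((2 ^ (2 * k) - 1) * (2 * k)) :=
        (hdiv.1.trans ((Sylow.card_dvd_index (Classical.arbitrary (Sylow q G))).trans
          (Subgroup.index_dvd_card _))).trans hGd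
      have hc1 : Nat.Coprime M (p - 1) := by
        refine Nat.coprime_of_dvd fun s hs hsM hsp => ?_
        have h2 : s ∣ 2 := by
          have h3 : s ∣ p ^ m - 1 := hsp.trans (Nat.sub_one_dvd_pow_sub_one p m)
          have h4 : s ∣ p ^ m + 1 := hsM.trans ⟨2, by omega⟩
          have h5 := Nat.dvd_sub h4 h3
          have := Nat.one_le_pow m p hp.out.pos
          rwa [show p ^ m + 1 - (p ^ m - 1) = 2 by omega] at h5
        obtain rfl := (Nat.prime_dvd_prime_iff_eq hs Nat.prime_two).mp h2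
        omega
      have hc2 : Nat.Coprime M 2 := Nat.coprime_two_right.mpr (Nat.odd_iff.mpr hM.2)
      have h2 : M ∣ (p - 1) * 2 ^ (2 * k) * ((2 ^ (2 * k) - 1) * (2 * k)) :=
        (Dvd.intro_left 2 hM.1.symm).trans h1
      have h3 := Nat.Coprime.dvd_of_dvd_mul_left (hc1.mul_right (hc2.pow_right _)) h2
      rw [mul_comm 2 k, ← mul_assoc] at h3
      rw [mul_comm k 2] at h3
      exact hc2.dvd_of_dvd_mul_right h3
    rcases (show k = 2 ∨ k = 3 ∨ 4 ≤ k by omega) with rfl | rfl | hk4
    · -- four dimensions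
      have hm' : m = 2 := by rw [hm]; norm_num
      rw [hm'] at hM
      norm_num at hMd
      have hMle := Nat.le_of_dvd (by norm_num) hMd
      have key3 : ∀ x y : ℕ, x.Prime → x % 2 = 1 → x ^ 2 + 1 = 2 * y → y ∣ 30 → x = 3 := by
        intro x y hx hodd hxy hy
        have := Nat.le_of_dvd (by norm_num) hy
        have hx8 : x < 8 := by nlinarith
        interval_cases x <;> first | rfl | omega | (revert hx; norm_num; done) |
          (have h13 : y = 13 := (by omega); rw [h13] at hy; norm_num at hy) |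
          (have h25 : y = 25 := (by omega); rw [h25] at hy; norm_num at hy) | omega
      have hp' : p = 3 := key3 p M hp.out hpodd hM.1 hMd
      rw [hp'] at hsa hsb hGd
      have key : ∀ (u : ℕ) [Fact u.Prime] (w : ℕ), 0 < w → 2 * w ≤ n → u ∣ Nat.card G →
          Nat.card (Sylow u G) * (3 ^ w - 1) = 3 ^ n - 1 → u = 3 := by
        intro u hu w hw0 hw2 hud hs
        rw [show n = 4 by rw [hnk]; norm_num] at hw2 hs
        have h1 : (Nat.card (Sylow u G) - 1) % u = 0 :=
          Nat.sub_mod_eq_zero_of_mod_eq (card_sylow_modEq_one u G)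
        have hud' : u ∣ 960 * 2 := hud.trans (hGd.trans (by norm_num))
        have hw' : w ≤ 2 := by omega
        interval_cases w <;> norm_num at hs
        · rw [show Nat.card (Sylow u G) = 40 by omega] at h1
          have hd : u ∣ 39 := Nat.dvd_of_mod_eq_zero h1
          exact (Nat.prime_dvd_prime_iff_eq hu.out Nat.prime_three).mp
            ((Nat.dvd_gcd hd hud').trans (by norm_num))
        · rw [show Nat.card (Sylow u G) = 10 by omega] at h1
          exact (Nat.prime_dvd_prime_iff_eq hu.out Nat.prime_three).mp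
            (hu.out.dvd_of_dvd_pow (show u ∣ 3 ^ 2 from Nat.dvd_of_mod_eq_zero h1))
      exact hqr ((key q a ha0 ha2 hqG hsa).trans (key r b hb0 hb2 hrG hsb).symm)
    · rw [hlk'] at hl; norm_num at hl
    · -- large dimensions
      have hk1 : 0 < (2 ^ (2 * k) - 1) * k := Nat.mul_pos (by
        have := Nat.one_lt_pow (by omega : 2 * k ≠ 0) (by norm_num : 1 < 2)
        omega) (by omega)
      have h1 := Nat.le_of_dvd hk1 hMd
      have h2 : 3 ^ m ≤ p ^ m := Nat.pow_le_pow_left hp3 m
      have h3 : ∀ j, 2 * ((2 ^ (2 * (j + 4)) - 1) * (j + 4)) < 3 ^ 2 ^ (j + 4 - 1) := by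
        intro j
        induction j with
        | zero => norm_num
        | succ j ih =>
          rw [show j + 1 + 4 - 1 = (j + 4 - 1) + 1 by omega, pow_succ 2 (j + 4 - 1), pow_mul 3]
          have e : 2 ^ (2 * (j + 1 + 4)) = 4 * 2 ^ (2 * (j + 4)) := by
            rw [show 2 * (j + 1 + 4) = 2 + 2 * (j + 4) by ring, pow_add]; norm_num
          rw [e]
          set X := 2 ^ (2 * (j + 4)) with hX
          have hX1 : 256 ≤ X := by
            rw [hX]; exact le_trans (by norm_num) (Nat.pow_le_pow_right (by norm_num) (by omega : 8 ≤ 2 * (j + 4)))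
          set Y := 3 ^ 2 ^ (j + 4 - 1)
          clear_value X
          obtain ⟨X', rfl⟩ : ∃ X', X = X' + 1 := ⟨X - 1, by omega⟩
          rw [Nat.add_sub_cancel] at ih
          rw [show 4 * (X' + 1) - 1 = 4 * X' + 3 by omega]
          have h1 : (4 * X' + 3) * (j + 1 + 4) ≤ 10 * (X' * (j + 4)) :=
            calc (4 * X' + 3) * (j + 1 + 4) ≤ (5 * X') * (2 * (j + 4)) :=
                  Nat.mul_le_mul (by omega) (by omega)
              _ = 10 * (X' * (j + 4)) := by ring
          have h2 : 10 ≤ Y := by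
            have : X' * 1 ≤ X' * (j + 4) := Nat.mul_le_mul_left _ (by omega)
            omega
          have h3 : 10 * Y ≤ Y ^ 2 := by rw [sq]; exact Nat.mul_le_mul_right Y h2
          omega
      have h4 := h3 (k - 4)
      rw [Nat.sub_add_cancel hk4, ← hm] at h4
      omega

end Two

end CfsgLib.CharDegree.ThreePrimes
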