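import Cfsg.Agent.Lib.CharDegree.ThreePrimes.Setup
import Cfsg.Agent.Lib.Char.RelMcKay.CentralCount
import Cfsg.Agent.Lib.PGroups.Basic
import Mathlib.GroupTheory.Commutator.Basic

/-!
# A normal subgroup with central minimal derived subgroup and a coprime complement

The setting `Layer M N H t`: characters over a non-trivial character of `M`, and the subgroups fixing them.
-/

set_option autoImplicit false
set_option linter.all false

namespace CfsgLib.CharDegree.ThreePrimes

open Subgroup CfsgLib.Char CfsgLib.Clifford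
open scoped commutatorElement

universe uu

variable {G : Type uu} [Group G] [Finite G]

/-- `N = H`-invariant normal `t`-subgroup with central derived subgroup `M`, and a coprime complement. -/
structure Layer (M N H : Subgroup G) [M.Normal] [N.Normal] (t : ℕ) : Prop where
  compl : H.IsComplement' N
  coprime : (Nat.card N).Coprime (Nat.card H)
  le : M ≤ N
  pgroup : IsPGroup t N
  comm_mem : ∀ a ∈ N, ∀ b ∈ N, a * b * a⁻¹ * b⁻¹ ∈ M
  derived : ⁅N, N⁆ = M
  central : ∀ m ∈ M, ∀ x ∈ N, m * x = x * m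
  expo : ∀ m ∈ M, m ^ t = 1
  ne_bot : M ≠ ⊥

namespace Layer

variable {M N H : Subgroup G} [hM : M.Normal] [hN : N.Normal] {t : ℕ} [ht : Fact t.Prime]
  (L : Layer M N H t)

include L

theorem mComm : ∀ a ∈ M, ∀ b ∈ M, a * b = b * a := fun a ha b hb => L.central a ha b (L.le hb)

theorem linear_eq_one (l : N →* ℂˣ) (n : N) (hn : (n : G) ∈ M) : l n = 1 := by
  have hle : ⁅N, N⁆ ≤ l.ker.map N.subtype := by
    rw [Subgroup.commutator_le]
    intro a ha b hb
    refine ⟨⁅(⟨a, ha⟩ : N), (⟨b, hb⟩ : N)⁆, ?_, map_commutatorElement N.subtype _ _⟩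
    rw [SetLike.mem_coe, MonoidHom.mem_ker, map_commutatorElement, commutatorElement_eq_one_iff_mul_comm]
    exact mul_comm _ _
  rw [L.derived] at hle
  obtain ⟨n', hn', he⟩ := hle hn
  rw [← show n' = n from Subtype.ext he]
  exact hn'

theorem exists_linear_of_notMem (n : N) (hn : (n : G) ∉ M) : ∃ l : N →* ℂˣ, l n ≠ 1 := by
  haveI : (M.subgroupOf N).Normal := hM.subgroupOf N
  letI : CommGroup (N ⧸ M.subgroupOf N) := { (inferInstance : Group (N ⧸ M.subgroupOf N)) with
    mul_comm := fun a b => by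
      induction a using QuotientGroup.induction_on with
      | H a =>
        induction b using QuotientGroup.induction_on with
        | H b =>
          refine (QuotientGroup.eq).mpr ?_
          rw [Subgroup.mem_subgroupOf]
          push_cast
          have := L.comm_mem (b : G)⁻¹ (inv_mem b.2) (a : G)⁻¹ (inv_mem a.2)
          simpa [mul_assoc] using this }
  obtain ⟨μ, hμ⟩ := CommGroup.exists_apply_ne_one_of_hasEnoughRootsOfUnity (N ⧸ M.subgroupOf N) ℂ
    (a := (n : N ⧸ M.subgroupOf N)) (fun h => hn ((QuotientGroup.eq_one_iff n).mp h))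
  exact ⟨μ.comp (QuotientGroup.mk' _), hμ⟩

theorem t_dvd_degree [Fintype N] (θ : Cfsg.IrrCharacter N) (h : Cfsg.charDegree (θ : N → ℂ) ≠ 1) :
    t ∣ Cfsg.charDegree (θ : N → ℂ) := by
  obtain ⟨k, hk⟩ := IsPGroup.iff_card.mp L.pgroup
  obtain ⟨j, -, hj⟩ := (Nat.dvd_prime_pow ht.out).mp (hk ▸ charDegree_dvd_card θ)
  rcases Nat.eq_zero_or_pos j with rfl | hj0
  · exact absurd (hj.trans (pow_zero t)) h
  · rw [hj]; exact dvd_pow_self t hj0.ne'

/-- Over a non-trivial character of `M` all characters are non-linear and scalar on `M`. -/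
theorem exists_over [Fintype N] (μ : M →* ℂˣ) (hμ : μ ≠ 1) :
    ∃ θ : Cfsg.IrrCharacter N, Cfsg.charDegree (θ : N → ℂ) ≠ 1 ∧
      ∀ (z : N) (hz : (z : G) ∈ M) (g : N), (θ : N → ℂ) (g * z) = (μ ⟨z, hz⟩ : ℂ) * (θ : N → ℂ) g := by
  classical
  haveI := Fintype.ofFinite (M.subgroupOf N)
  have hZ : M.subgroupOf N ≤ center N := fun z hz => Subgroup.mem_center_iff.mpr fun g =>
    Subtype.ext (L.central z hz g g.2).symm
  let i : M.subgroupOf N →* M :=
    { toFun := fun z => ⟨((z : N) : G), z.2⟩, map_one' := rfl, map_mul' := fun _ _ => rfl }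
  obtain ⟨θ, hθ⟩ := exists_above (M.subgroupOf N) (linFn_irr (μ.comp i))
  have hover := (RelMcKay.isOver_central_iff hZ (μ.comp i) θ).mp ((RelMcKay.isOver_subtype _ _).mpr hθ)
  refine ⟨θ, fun h1 => hμ ?_, fun z hz g => hover ⟨z, hz⟩ g⟩
  obtain ⟨l, hl⟩ := exists_hom_of_degree_one θ h1
  refine MonoidHom.ext fun m => Units.ext ?_
  have h := hover ⟨⟨(m : G), L.le m.2⟩, m.2⟩ 1
  rw [one_mul, hl] at h
  simp only [map_one, Units.val_one, mul_one] at h
  rw [L.linear_eq_one l _ m.2, Units.val_one] at h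
  exact h.symm

/-- A character over `μ` fixed by everything fixing `μ`. -/
theorem exists_fixed [Fintype N] (μ : M →* ℂˣ) (hμ : μ ≠ 1) :
    ∃ θ : Cfsg.IrrCharacter N, Cfsg.charDegree (θ : N → ℂ) ≠ 1 ∧
      stab N H (θ : N → ℂ) = stab M H (linFn μ) := by
  classical
  haveI : (M.subgroupOf N).Normal := hM.subgroupOf N
  haveI := Fintype.ofFinite (M.subgroupOf N)
  set S := stab M H (linFn μ) with hS
  haveI := Fintype.ofFinite S
  obtain ⟨θ, hθ1, hθ⟩ := L.exists_over μ hμ
  set e := Cfsg.charDegree (θ : N → ℂ) with he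
  let φ : M.subgroupOf N → ℂ := fun z => (μ ⟨((z : N) : G), z.2⟩ : ℂ)
  let i : M.subgroupOf N →* M :=
    { toFun := fun z => ⟨((z : N) : G), z.2⟩, map_one' := rfl, map_mul' := fun _ _ => rfl }
  have hφ : Cfsg.IsIrrCharacter (M.subgroupOf N) φ := isIrrCharacter_linear (μ.comp i)
  have hres : ∀ l : M.subgroupOf N, (θ : N → ℂ) l = (e : ℂ) * φ l := fun l => by
    have := hθ (l : N) l.2 1
    rw [one_mul, ← cast_irrDegree θ] at this
    rw [this, mul_comm]
  have hSM : ∀ s ∈ S, ∀ m : M, μ (conjHom M H s m) = μ m := fun s hs =>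
    (dualAct_eq_self_iff _ _ _).mp (mem_stab_linFn.mp hs)
  obtain ⟨θ₀, h₀, h₀s⟩ := exists_fixed_over (L := M.subgroupOf N) ((conjHom N H).comp S.subtype)
    (fun x y => L.comm_mem x x.2 y y.2) hφ (L.coprime.coprime_dvd_right (Subgroup.card_subgroup_dvd_card S))
    (fun s l hl => hM.conj_mem _ hl _)
    (fun s l => congrArg Units.val (hSM s s.2 ⟨((l : N) : G), l.2⟩)) θ hres
  have hd : Cfsg.charDegree (θ₀ : N → ℂ) = e := by
    refine charDegree_eq_of_apply_one ?_
    have := h₀ 1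
    rw [show φ 1 = 1 from (congrArg Units.val (map_one (μ.comp i))).trans Units.val_one, mul_one] at this
    exact this
  refine ⟨θ₀, hd ▸ hθ1, le_antisymm (fun x hx => ?_) fun x hx => ?_⟩
  · refine mem_stab_linFn.mpr ((dualAct_eq_self_iff _ _ _).mpr fun m => Units.ext ?_)
    have h := mem_stab_iff.mp hx ⟨(m : G), L.le m.2⟩
    rw [h₀ ⟨conjHom N H x ⟨(m : G), L.le m.2⟩, hM.conj_mem _ m.2 _⟩,
      h₀ ⟨⟨(m : G), L.le m.2⟩, m.2⟩] at h
    exact mul_left_cancel₀ (Nat.cast_ne_zero.mpr (charDegree_pos θ).ne') h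
  · exact mem_stab_iff.mpr fun n => h₀s ⟨x, hx⟩ n

/-- A prime other than `t`, separated from `t`: the stabiliser of a non-linear character contains exactly one
of its Sylow subgroups. -/
theorem unique_of_nonlinear [Fintype G] [Group.IsSolvable G] [Fintype N] {w : ℕ} [Fact w.Prime]
    (hsep : Sep t w G) (θ : Cfsg.IrrCharacter N) (h : Cfsg.charDegree (θ : N → ℂ) ≠ 1) :
    (∃! P : Sylow w H, (P : Subgroup H) ≤ stab N H (θ : N → ℂ)) ∧
      ∀ P : Sylow w H, (P : Subgroup H) ≤ stab N H (θ : N → ℂ) →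
        ((P : Subgroup H).subgroupOf (stab N H (θ : N → ℂ))).Normal ∧ IsMulCommutative (P : Subgroup H) :=
  unique_sylow_of_degrees L.compl θ.2 (ext_coprime θ.2 L.coprime)
    ((L.t_dvd_degree θ h).mul_left _) hsep

theorem unique_of_ne_one [Fintype G] [Group.IsSolvable G] [Fintype N] {w : ℕ} [Fact w.Prime]
    (hsep : Sep t w G) (μ : M →* ℂˣ) (hμ : μ ≠ 1) :
    (∃! P : Sylow w H, (P : Subgroup H) ≤ stab M H (linFn μ)) ∧
      ∀ P : Sylow w H, (P : Subgroup H) ≤ stab M H (linFn μ) →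
        ((P : Subgroup H).subgroupOf (stab M H (linFn μ))).Normal ∧ IsMulCommutative (P : Subgroup H) := by
  obtain ⟨θ, h1, h2⟩ := L.exists_fixed μ hμ
  rw [← h2]
  exact L.unique_of_nonlinear hsep θ h1

theorem exists_dual_ne_one : ∃ μ : M →* ℂˣ, μ ≠ 1 := by
  haveI : Nontrivial M := (Subgroup.nontrivial_iff_ne_bot M).mpr L.ne_bot
  obtain ⟨m, hm⟩ := exists_ne (1 : M)
  obtain ⟨μ, hμ⟩ := exists_linear_ne_one L.mComm hm
  exact ⟨μ, fun h => hμ (by rw [h]; rfl)⟩

theorem dual_exp (d : M →* ℂˣ) : d ^ t = 1 := MonoidHom.ext fun m => by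
  rw [MonoidHom.pow_apply, ← map_pow, show m ^ t = 1 from Subtype.ext (L.expo m m.2), map_one,
    MonoidHom.one_apply]

/-- A prime either moves characters of `M` with each Sylow subgroup, or has a normal Sylow subgroup fixing
all non-linear characters and moving a linear one. -/
theorem moves_or_normal [Fintype G] [Group.IsSolvable G] [Fintype N] {w : ℕ} [Fact w.Prime]
    (hwt : w ≠ t) (hsep : Sep t w G) (hw : ¬ Miss w G) :
    (∀ P : Sylow w H, ∃ g ∈ (P : Subgroup H), ∃ d, dualAct (conjHom M H) g d ≠ d) ∨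
      ∃ U : Sylow w H, (U : Subgroup H).Normal ∧
        (∀ g ∈ (U : Subgroup H), ∀ d, dualAct (conjHom M H) g d = d) ∧
        (∀ θ : Cfsg.IrrCharacter N, Cfsg.charDegree (θ : N → ℂ) ≠ 1 →
          (U : Subgroup H) ≤ stab N H (θ : N → ℂ)) ∧
        ∃ l : N →* ℂˣ, ¬ (U : Subgroup H) ≤ stab N H (linFn l) := by
  refine or_iff_not_imp_left.mpr fun hno => ?_
  push Not at hno
  obtain ⟨U, hU⟩ := hno
  obtain ⟨μ₀, hμ₀⟩ := L.exists_dual_ne_one
  obtain ⟨huniq, hprop⟩ := L.unique_of_ne_one hsep μ₀ hμ₀ (w := w)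
  haveI hUn : (U : Subgroup H).Normal := sylow_normal_of_unique_le U (C := (dualAct (conjHom M H)).ker)
    (fun g hg => MonoidHom.mem_ker.mpr (MulEquiv.ext fun d => hU g hg d))
    (fun g hg => mem_stab_linFn.mpr (by rw [MonoidHom.mem_ker.mp hg, MulAut.one_apply]))
    huniq
  have hUc : IsMulCommutative (U : Subgroup H) :=
    (hprop U (le_stab_linFn.mpr fun g hg => hU g hg μ₀)).2
  refine ⟨U, hUn, hU, fun θ h1 => ?_, ?_⟩
  · obtain ⟨P, hP, -⟩ := (L.unique_of_nonlinear hsep θ h1 (w := w)).1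
    obtain ⟨g, rfl⟩ := MulAction.exists_smul_eq H U P
    rwa [Sylow.smul_eq_of_normal] at hP
  · by_contra hfix
    push Not at hfix
    have hcent : ∀ x ∈ (U : Subgroup H), ∀ k ∈ N, Commute (x : G) k := by
      intro x hx k hk
      have hxM : ∀ m ∈ M, Commute (x : G) m := fun m hm => commute_of_fix L.mComm (hU x hx) hm
      set m := (conjHom N H x ⟨k, hk⟩ * (⟨k, hk⟩ : N)⁻¹ : N) with hm
      have hmM : (m : G) ∈ M := by
        by_contra hmM
        obtain ⟨l, hl⟩ := L.exists_linear_of_notMem m hmM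
        refine hl ?_
        rw [hm, map_mul, map_inv,
          (dualAct_eq_self_iff _ _ _).mp (mem_stab_linFn.mp (hfix l hx)) ⟨k, hk⟩, mul_inv_cancel]
      have hxk : (x : G) * k * (x : G)⁻¹ = (m : G) * k := by simp [hm, coe_conjHom]
      have hit : ∀ i : ℕ, (x : G) ^ i * k * ((x : G) ^ i)⁻¹ = (m : G) ^ i * k := by
        intro i
        induction i with
        | zero => simp
        | succ i ih =>
          calc (x : G) ^ (i + 1) * k * ((x : G) ^ (i + 1))⁻¹
              = (x : G) * ((x : G) ^ i * k * ((x : G) ^ i)⁻¹) * (x : G)⁻¹ := by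
                rw [pow_succ']; group
            _ = (x : G) * ((m : G) ^ i * k) * (x : G)⁻¹ := by rw [ih]
            _ = (m : G) ^ i * ((x : G) * k * (x : G)⁻¹) := by
                rw [← mul_assoc, ((hxM _ hmM).pow_right i).eq]; group
            _ = (m : G) ^ (i + 1) * k := by rw [hxk, ← mul_assoc, ← pow_succ]
      have h1 := hit (orderOf (x : G))
      rw [pow_orderOf_eq_one, one_mul, inv_one, mul_one, eq_comm, mul_eq_right] at h1
      have h2 := L.expo _ hmM
      have h3 := pow_gcd_eq_one.mpr ⟨h1, h2⟩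
      have hcop : (orderOf (x : G)).Coprime t := by
        refine Nat.Coprime.symm ((L.coprime.coprime_dvd_left ?_).coprime_dvd_right ?_)
        · haveI : Nontrivial N := (Subgroup.nontrivial_iff_ne_bot N).mpr fun h =>
            L.ne_bot (le_bot_iff.mp (h ▸ L.le))
          exact (L.pgroup.card_eq_or_dvd).resolve_left Finite.one_lt_card.ne'
        · rw [Subgroup.orderOf_coe]; exact orderOf_dvd_natCard x
      rw [hcop, pow_one] at h3
      exact mul_inv_eq_iff_eq_mul.mp (by rw [hxk, h3, one_mul])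
    haveI : ((U : Subgroup H).map H.subtype).Normal := by
      refine ⟨fun a ha g => ?_⟩
      obtain ⟨x, hx, rfl⟩ := ha
      obtain ⟨⟨⟨h, hh⟩, ⟨n, hn⟩⟩, rfl⟩ := L.compl.2 g
      refine ⟨⟨h, hh⟩ * x * ⟨h, hh⟩⁻¹, hUn.conj_mem x hx _, ?_⟩
      show h * (x : G) * h⁻¹ = h * n * (x : G) * (h * n)⁻¹
      have := (hcent x hx n hn).eq
      calc h * (x : G) * h⁻¹ = h * ((x : G) * n) * (n⁻¹ * h⁻¹) := by group
        _ = _ := by rw [this]; group
    refine hw (miss_of_abelian_normal ((U : Subgroup H).map H.subtype) ?_ ?_)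
    · rintro _ ⟨a, ha, rfl⟩ _ ⟨b, hb, rfl⟩
      exact congrArg (fun z : (U : Subgroup H) => ((z : H) : G)) (hUc.is_comm.comm ⟨a, ha⟩ ⟨b, hb⟩)
    · rw [Subgroup.index_map_subtype, L.compl.symm.index_eq_card]
      intro h
      rcases (Fact.out : w.Prime).dvd_mul.mp h with h | h
      · exact U.not_dvd_index h
      · obtain ⟨k, hk⟩ := IsPGroup.iff_card.mp L.pgroup
        rw [hk] at h
        exact hwt ((Nat.prime_dvd_prime_iff_eq Fact.out ht.out).mp ((Fact.out : w.Prime).dvd_of_dvd_pow h))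

end Layer

end CfsgLib.CharDegree.ThreePrimes
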