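import Cfsg.Agent.Lib.CharDegree.ThreePrimes.Mixed
import Mathlib.GroupTheory.SchurZassenhaus

/-!
# No three pairwise separated primes among the degrees of a solvable group

`three_primes`: if no two of three primes divide a common degree, one of them divides no degree.
-/

set_option autoImplicit false
set_option linter.all false

namespace CfsgLib.CharDegree.ThreePrimes

open Subgroup CfsgLib.Char CfsgLib.Clifford
open scoped commutatorElement

universe uu

variable {G : Type uu} [Group G] [Finite G] [Group.IsSolvable G]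

/-- The case in which the prime of the minimal normal subgroup misses the quotient. -/
theorem false_of_central {M : Subgroup G} [M.Normal] (hM : M ≠ ⊥)
    (hmin : ∀ K : Subgroup G, K.Normal → K ≤ M → K = ⊥ ∨ K = M)
    {t u v : ℕ} [ht : Fact t.Prime] [Fact u.Prime] [Fact v.Prime]
    (hexp : ∀ m ∈ M, m ^ t = 1) (hut : u ≠ t) (hvt : v ≠ t) (huv : u ≠ v)
    (h_tu : Sep t u G) (h_tv : Sep t v G) (h_uv : Sep u v G)
    (h_t : ¬ Miss t G) (h_u : ¬ Miss u G) (h_v : ¬ Miss v G) (htq : Miss t (G ⧸ M)) : False := by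
  classical
  haveI := Fintype.ofFinite G
  have hMp : IsPGroup t M := fun m => ⟨1, by rw [pow_one]; exact Subtype.ext (hexp m m.2)⟩
  obtain ⟨T, hMT⟩ := hMp.exists_le_sylow
  have hπ := QuotientGroup.mk'_surjective M
  obtain ⟨hTn', hTc⟩ := (itoMichler (Or.inr inferInstance) (T.mapSurjective hπ)).mpr htq
  rw [Sylow.coe_mapSurjective] at hTn'
  haveI hTn : (T : Subgroup G).Normal := by
    have h := hTn'.comap (QuotientGroup.mk' M)
    rwa [Subgroup.comap_map_eq, QuotientGroup.ker_mk', sup_eq_left.mpr hMT] at h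
  have hcm : ∀ a ∈ (T : Subgroup G), ∀ b ∈ (T : Subgroup G), a * b * a⁻¹ * b⁻¹ ∈ M := by
    intro a ha b hb
    have h := hTc.is_comm.comm ⟨QuotientGroup.mk' M a, by
        rw [Sylow.coe_mapSurjective]; exact Subgroup.mem_map_of_mem _ ha⟩
      ⟨QuotientGroup.mk' M b, by rw [Sylow.coe_mapSurjective]; exact Subgroup.mem_map_of_mem _ hb⟩
    have h' : QuotientGroup.mk' M a * QuotientGroup.mk' M b = QuotientGroup.mk' M b * QuotientGroup.mk' M a :=
      congrArg Subtype.val h
    rw [← QuotientGroup.eq_one_iff]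
    show QuotientGroup.mk' M (a * b * a⁻¹ * b⁻¹) = 1
    rw [map_mul, map_mul, map_mul, map_inv, map_inv, h']
    group
  have hder : ⁅(T : Subgroup G), (T : Subgroup G)⁆ = M := by
    refine (hmin _ inferInstance (Subgroup.commutator_le.mpr fun a ha b hb => ?_)).resolve_left fun h => h_t ?_
    · rw [commutatorElement_def]; exact hcm a ha b hb
    · refine miss_of_abelian_normal (T : Subgroup G) (fun a ha b hb => ?_) T.not_dvd_index
      have h1 : ⁅a, b⁆ = 1 := Subgroup.mem_bot.mp (h ▸ Subgroup.commutator_mem_commutator ha hb)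
      exact commutatorElement_eq_one_iff_mul_comm.mp h1
  have hcent : ∀ m ∈ M, ∀ x ∈ (T : Subgroup G), m * x = x * m := by
    have h : M ⊓ centralizer ((T : Subgroup G) : Set G) = M := by
      refine (hmin _ inferInstance inf_le_left).resolve_left fun h => ?_
      haveI : (M.subgroupOf (T : Subgroup G)).Normal := (inferInstance : M.Normal).subgroupOf _
      have hne : M.subgroupOf (T : Subgroup G) ≠ ⊥ := fun h0 =>
        hM (inf_eq_left.mpr hMT ▸ disjoint_iff.mp (Subgroup.subgroupOf_eq_bot.mp h0))
      obtain ⟨z, hz, hz1⟩ :=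
        (Subgroup.bot_or_exists_ne_one _).resolve_left (CfsgLib.PGroups.inf_center_ne_bot T.2 hne)
      refine hz1 (Subtype.ext (Subgroup.mem_bot.mp (h ▸ ⟨hz.1, ?_⟩ : (z : G) ∈ (⊥ : Subgroup G))))
      intro x hx
      exact congrArg Subtype.val (Subgroup.mem_center_iff.mp hz.2 ⟨x, hx⟩)
    intro m hm x hx
    exact ((inf_eq_left.mp h hm) x hx).symm
  obtain ⟨H, hH⟩ := Subgroup.exists_left_complement'_of_coprime T.card_coprime_index
  have hcop : (Nat.card (T : Subgroup G)).Coprime (Nat.card H) := hH.index_eq_card ▸ T.card_coprime_index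
  have L : Layer M (T : Subgroup G) H t :=
    { compl := hH, coprime := hcop, le := hMT, pgroup := T.2, comm_mem := hcm, derived := hder,
      central := hcent, expo := hexp, ne_bot := hM }
  haveI := Fintype.ofFinite (T : Subgroup G)
  rcases L.moves_or_normal hut h_tu h_u with hu | ⟨U, hUn, hUM, hUθ, lu, hlu⟩
  · rcases L.moves_or_normal hvt h_tv h_v with hv | ⟨V, hVn, hVM, hVθ, lv, hlv⟩
    · obtain ⟨d₀, hd₀⟩ := L.exists_dual_ne_one
      haveI : Nontrivial (M →* ℂˣ) := ⟨⟨d₀, 1, hd₀⟩⟩
      obtain ⟨χ, hχu, hχv⟩ := exists_degree_of_two (D := M →* ℂˣ) L.dual_exp (dualAct (conjHom M H)) huv hu hv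
        (fun d hd => by simpa only [le_stab_linFn] using (L.unique_of_ne_one h_tu d hd).1)
        (fun d hd => by simpa only [le_stab_linFn] using (L.unique_of_ne_one h_tv d hd).1)
      obtain ⟨χ', hχ'⟩ := exists_of_complement hH χ
      exact h_uv χ' (hχ' ▸ hχu) (hχ' ▸ hχv)
    · exact L.false_of_mixed h_tu h_uv.symm hvt V hVM hVθ lv hlv hu
  · rcases L.moves_or_normal hvt h_tv h_v with hv | ⟨V, hVn, hVM, hVθ, lv, hlv⟩
    · exact L.false_of_mixed h_tv h_uv hut U hUM hUθ lu hlu hv
    · -- a linear character moved by both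
      obtain ⟨l, hl1, hl2⟩ : ∃ l : (T : Subgroup G) →* ℂˣ,
          ¬ (U : Subgroup H) ≤ stab (T : Subgroup G) H (linFn l) ∧
          ¬ (V : Subgroup H) ≤ stab (T : Subgroup G) H (linFn l) := by
        by_cases h1 : (V : Subgroup H) ≤ stab (T : Subgroup G) H (linFn lu)
        · by_cases h2 : (U : Subgroup H) ≤ stab (T : Subgroup G) H (linFn lv)
          · rw [le_stab_linFn] at h1 h2 hlu hlv
            refine ⟨lu * lv, fun h => hlu fun g hg => ?_, fun h => hlv fun g hg => ?_⟩
            · have := le_stab_linFn.mp h g hg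
              rw [map_mul, h2 g hg] at this
              exact mul_right_cancel this
            · have := le_stab_linFn.mp h g hg
              rw [map_mul, h1 g hg] at this
              exact mul_left_cancel this
          · exact ⟨lv, h2, hlv⟩
        · exact ⟨lu, hlu, h1⟩
      obtain ⟨χ, hχ⟩ := exists_degree hH (linFn_irr l) (ext_linear l)
        ⟨_, isIrrCharacter_one⟩
      rw [charDegree_linFn, mul_one] at hχ
      exact h_uv χ (hχ ▸ (dvd_index_of_not_le U _ hl1).mul_right _)
        (hχ ▸ (dvd_index_of_not_le V _ hl2).mul_right _)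

/-- If no two of three primes divide a common degree, one of them divides no degree. -/
theorem three_primes : ∀ (n : ℕ) (G : Type uu) [Group G] [Finite G] [Group.IsSolvable G], Nat.card G = n →
    ∀ p q r : ℕ, p.Prime → q.Prime → r.Prime → p ≠ q → q ≠ r → p ≠ r →
      Sep p q G → Sep q r G → Sep p r G → Miss p G ∨ Miss q G ∨ Miss r G := by
  intro n
  induction n using Nat.strong_induction_on with
  | _ n ih =>
    intro G _ _ _ hn p q r hp hq hr hpq hqr hpr h1 h2 h3
    subst hn
    haveI := Fact.mk hp
    haveI := Fact.mk hq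
    haveI := Fact.mk hr
    rcases subsingleton_or_nontrivial G with hG | hG
    · exact Or.inl fun χ hd => hp.not_dvd_one (by
        have := hd.trans (charDegree_dvd_card χ)
        rwa [Nat.card_unique] at this)
    by_contra hno
    push Not at hno
    obtain ⟨hp', hq', hr'⟩ := hno
    obtain ⟨M, hMn, hM, -, hmin⟩ := CfsgLib.Core.exists_minimal_normal_le' (⊤ : Subgroup G) top_ne_bot
    obtain ⟨t, ht, -, hMc', hexp⟩ := CfsgLib.Core.isPGroup_of_minimal_normal M inferInstance hM hmin
    haveI := Fact.mk ht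
    have hMc : ∀ a ∈ M, ∀ b ∈ M, a * b = b * a := fun a ha b hb =>
      congrArg Subtype.val (hMc'.is_comm.comm ⟨a, ha⟩ ⟨b, hb⟩)
    have hlt : Nat.card (G ⧸ M) < Nat.card G := by
      rw [Subgroup.card_eq_card_quotient_mul_card_subgroup M]
      haveI : Nontrivial M := (Subgroup.nontrivial_iff_ne_bot M).mpr hM
      exact lt_mul_of_one_lt_right Nat.card_pos Finite.one_lt_card
    have hq1 := ih _ hlt (G ⧸ M) rfl p q r hp hq hr hpq hqr hpr (h1.quotient M) (h2.quotient M) (h3.quotient M)
    -- the missing prime either differs from `t`, or is `t`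
    rcases hq1 with hm | hm | hm
    · by_cases h : p = t
      · subst h
        exact false_of_central hM hmin hexp hpq.symm hpr.symm hqr h1 h3 h2 hp' hq' hr' hm
      · exact false_of_split hM hmin hMc ht hexp hqr h h1 h3 h2 hp' hq' hr' hm
    · by_cases h : q = t
      · subst h
        exact false_of_central hM hmin hexp hpq hqr.symm hpr h1.symm h2 h3 hq' hp' hr' hm
      · exact false_of_split hM hmin hMc ht hexp hpr h h1.symm h2 h3 hq' hp' hr' hm
    · by_cases h : r = t
      · subst h
        exact false_of_central hM hmin hexp hpr hqr hpq h3.symm h2.symm h1 hr' hp' hq' hm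
      · exact false_of_split hM hmin hMc ht hexp hpq h h3.symm h2.symm h1 hr' hp' hq' hm

end CfsgLib.CharDegree.ThreePrimes
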