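import Cfsg.Agent.Lib.CharDegree.ThreePrimes.Layer

/-!
# One prime centralises the derived subgroup, the other does not

`Layer.false_of_mixed`: commutation with a suitable element embeds the dual of `M` properly into a space of
linear characters on which the same Sylow number is realised, which is arithmetically impossible.
-/

set_option autoImplicit false
set_option linter.all false

namespace CfsgLib.CharDegree.ThreePrimes

open Subgroup CfsgLib.Char CfsgLib.Clifford

universe uu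

/-- Two spaces of different dimensions do not share a Sylow number. -/
theorem false_of_two_dims {t c a b m k : ℕ} (ht : 1 < t) (hb : b ∣ k) (hb2 : 2 * b ≤ k) (hm : 0 < m)
    (hmk : t ^ m < t ^ k) (ha : c * (t ^ a - 1) = t ^ m - 1) (hc : c * (t ^ b - 1) = t ^ k - 1) : False := by
  replace hmk : m < k := (Nat.pow_lt_pow_iff_right ht).mp hmk
  set g := Nat.gcd m k with hg
  have hcd : c ∣ t ^ g - 1 := by
    rw [hg, ← Nat.pow_sub_one_gcd_pow_sub_one]
    exact Nat.dvd_gcd (Dvd.intro _ ha) (Dvd.intro _ hc)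
  have hg0 : 0 < g := Nat.gcd_pos_of_pos_left _ hm
  have hgk : 2 * g ≤ k := by
    obtain ⟨j, hj⟩ := Nat.gcd_dvd_right m k
    rw [← hg] at hj
    have hgm : g ≤ m := Nat.gcd_le_left _ hm
    have : 2 ≤ j := by
      rcases Nat.lt_or_ge j 2 with h | h
      · interval_cases j <;> omega
      · exact h
    calc 2 * g ≤ j * g := Nat.mul_le_mul_right g this
      _ = k := by rw [hj, mul_comm]
  have htg : 2 ≤ t ^ g := le_trans ht (Nat.le_self_pow hg0.ne' t)
  have hle : c ≤ t ^ g - 1 := Nat.le_of_dvd (by omega) hcd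
  have htb1 : 1 ≤ t ^ b := Nat.one_le_pow _ _ (by omega)
  have h1 : t ^ k - 1 ≤ (t ^ g - 1) * (t ^ b - 1) := hc ▸ Nat.mul_le_mul_right _ hle
  have h2 : t ^ g * t ^ b ≤ t ^ k := by
    rw [← pow_add]
    exact Nat.pow_le_pow_right (by omega) (by omega)
  obtain ⟨A, hA⟩ : ∃ A, t ^ g = A + 1 := ⟨t ^ g - 1, by omega⟩
  obtain ⟨B, hB⟩ : ∃ B, t ^ b = B + 1 := ⟨t ^ b - 1, by omega⟩
  rw [hA, hB, Nat.add_sub_cancel, Nat.add_sub_cancel] at h1
  rw [hA, hB, add_mul, mul_add, one_mul, mul_one] at h2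
  omega

variable {G : Type uu} [Group G] [Finite G]

namespace Layer

attribute [-instance] MonoidHom.instPow

variable {M N H : Subgroup G} [hM : M.Normal] [hN : N.Normal] {t : ℕ} [ht : Fact t.Prime]
  (L : Layer M N H t)

include L

/-- The commutator with a fixed element followed by a character of `M`. -/
noncomputable def pairing (x : N) : (M →* ℂˣ) →* (N →* ℂˣ) :=
  MonoidHom.mk' (fun μ =>
    MonoidHom.mk' (fun k => μ ⟨(x : G) * k * (x : G)⁻¹ * (k : G)⁻¹, L.comm_mem _ x.2 _ k.2⟩) fun a b => by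
      rw [← map_mul]
      refine congrArg μ (Subtype.ext ?_)
      push_cast
      have hc := L.central _ (L.comm_mem _ x.2 _ b.2) (a : G) a.2
      set d := (x : G) * b * (x : G)⁻¹ * (b : G)⁻¹
      calc (x : G) * (a * b) * (x : G)⁻¹ * ((a : G) * b)⁻¹
          = (x : G) * a * (x : G)⁻¹ * d * (a : G)⁻¹ := by simp only [d]; group
        _ = (x : G) * a * (x : G)⁻¹ * ((a : G)⁻¹ * ((a : G) * d) * (a : G)⁻¹) := by group
        _ = (x : G) * a * (x : G)⁻¹ * ((a : G)⁻¹ * (d * (a : G)) * (a : G)⁻¹) := by rw [hc]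
        _ = _ := by group)
    fun μ ν => rfl

theorem pairing_apply (x : N) (μ : M →* ℂˣ) (k : N) :
    L.pairing x μ k = μ ⟨(x : G) * k * (x : G)⁻¹ * (k : G)⁻¹, L.comm_mem _ x.2 _ k.2⟩ := rfl

theorem pairing_self (x : N) (μ : M →* ℂˣ) : L.pairing x μ x = 1 := by
  rw [pairing_apply, ← map_one μ]
  exact congrArg μ (Subtype.ext (by simp))

theorem pairing_mul (x y k : N) (μ : M →* ℂˣ) :
    L.pairing (x * y) μ k = L.pairing x μ k * L.pairing y μ k := by
  rw [pairing_apply, pairing_apply, pairing_apply, ← map_mul]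
  refine congrArg μ (Subtype.ext ?_)
  push_cast
  have hc := L.central _ (L.comm_mem _ y.2 _ k.2) (x : G) x.2
  have hd := L.central _ (L.comm_mem _ y.2 _ k.2) _ (N.mul_mem (N.mul_mem (N.mul_mem x.2 k.2) (N.inv_mem x.2)) (N.inv_mem k.2))
  set d := (y : G) * k * (y : G)⁻¹ * (k : G)⁻¹
  calc (x : G) * y * k * ((x : G) * y)⁻¹ * (k : G)⁻¹
      = ((x : G) * d) * k * (x : G)⁻¹ * (k : G)⁻¹ := by simp only [d]; group
    _ = d * ((x : G) * k * (x : G)⁻¹ * (k : G)⁻¹) := by rw [← hc]; group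
    _ = _ := hd

theorem pairing_inv (x k : N) (μ : M →* ℂˣ) : L.pairing x⁻¹ μ k = (L.pairing x μ k)⁻¹ := by
  refine eq_inv_of_mul_eq_one_left ?_
  rw [← L.pairing_mul, inv_mul_cancel, L.pairing_apply, ← map_one μ]
  exact congrArg μ (Subtype.ext (by simp))

theorem pairing_conj (x k : N) (μ : M →* ℂˣ) {g : H} (hg : dualAct (conjHom M H) g μ = μ) :
    L.pairing (conjHom N H g x) μ (conjHom N H g k) = L.pairing x μ k := by
  rw [pairing_apply, pairing_apply,
    ← (dualAct_eq_self_iff _ _ _).mp hg ⟨(x : G) * k * (x : G)⁻¹ * (k : G)⁻¹, L.comm_mem _ x.2 _ k.2⟩]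
  refine congrArg μ (Subtype.ext ?_)
  simp only [coe_conjHom]
  group

/-- Non-vanishing on elements central modulo the kernel. -/
theorem apply_ne_zero [Fintype N] (θ : Cfsg.IrrCharacter N) {μ : M →* ℂˣ}
    (hθ : ∀ (z : N) (hz : (z : G) ∈ M) (g : N), (θ : N → ℂ) (g * z) = (μ ⟨z, hz⟩ : ℂ) * (θ : N → ℂ) g)
    (x : N) (hx : ∀ k, L.pairing x μ k = 1) : (θ : N → ℂ) x ≠ 0 := by
  obtain ⟨n, ρ, hρ, hc, -⟩ := exists_rep θ
  haveI := hρ
  obtain ⟨ω, hω⟩ := CfsgLib.CharIntegral.exists_scalar_of_commute ρ (ρ x) fun k => by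
    set d : N := x * k * x⁻¹ * k⁻¹ with hd
    have hdM : (d : G) ∈ M := L.comm_mem _ x.2 _ k.2
    have h1 : (θ : N → ℂ) d = (θ : N → ℂ) 1 := by
      have := hθ d hdM 1
      rw [one_mul] at this
      rw [this, show μ ⟨(d : G), hdM⟩ = 1 from hx k, Units.val_one, one_mul]
    have h2 : ρ d = 1 := (CfsgLib.CharIntegral.character_eq_finrank_iff ρ d).mp (by
      rw [← Representation.char_one ρ, hc]; exact h1)
    rw [← map_mul, show x * k = d * (k * x) by rw [hd]; group, map_mul, h2, one_mul, map_mul]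
  intro h0
  have h := CfsgLib.CharIntegral.norm_character_eq_of_scalar ρ x hω
  rw [hc, h0, norm_zero, eq_comm, Nat.cast_eq_zero] at h
  exact (CfsgLib.CharIntegral.finrank_pos_of_irreducible ρ).ne' h

open CfsgLib.CharIntegral in
theorem false_of_mixed [Fintype G] [Group.IsSolvable G] [Fintype N] {q r : ℕ} [hq : Fact q.Prime]
    [hr : Fact r.Prime] (htq : Sep t q G) (hrq : Sep r q G) (hrt : r ≠ t) (R : Sylow r H)
    [hRn : (R : Subgroup H).Normal]
    (hRM : ∀ g ∈ (R : Subgroup H), ∀ d, dualAct (conjHom M H) g d = d)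
    (hRθ : ∀ θ : Cfsg.IrrCharacter N, Cfsg.charDegree (θ : N → ℂ) ≠ 1 →
      (R : Subgroup H) ≤ stab N H (θ : N → ℂ))
    (l₁ : N →* ℂˣ) (hl₁ : ¬ (R : Subgroup H) ≤ stab N H (linFn l₁))
    (hQ : ∀ P : Sylow q H, ∃ g ∈ (P : Subgroup H), ∃ d, dualAct (conjHom M H) g d ≠ d) : False := by
  classical
  haveI := Fintype.ofFinite (R : Subgroup H)
  set φ := dualAct (conjHom N H) with hφ
  -- the characters of exponent `t` in the part moved by `R`
  let P : (N →* ℂˣ) →* (N →* ℂˣ) :=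
    MonoidHom.mk' (fun ν => ∏ g : (R : Subgroup H), φ g ν) fun ν ν' => by
      simp only [map_mul, Finset.prod_mul_distrib]
  have hPapp : ∀ ν, P ν = ∏ g : (R : Subgroup H), φ g ν := fun ν => rfl
  let E : Subgroup (N →* ℂˣ) := (powMonoidHom t : (N →* ℂˣ) →* (N →* ℂˣ)).ker
  let D : Subgroup (N →* ℂˣ) := E ⊓ P.ker
  have hmemD : ∀ ν, ν ∈ D ↔ ν ^ t = 1 ∧ P ν = 1 := fun ν => Iff.rfl
  have hinv : ∀ h, ∀ ν ∈ D, φ h ν ∈ D := by
    intro h ν hν
    obtain ⟨h1, h2⟩ := (hmemD ν).mp hν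
    refine (hmemD _).mpr ⟨by rw [← map_pow, h1, map_one], ?_⟩
    rw [← map_one (φ h), ← h2, hPapp, hPapp, map_prod]
    refine Fintype.prod_equiv (MulAut.conjNormal h⁻¹ : MulAut (R : Subgroup H)).toEquiv _ _ fun g => ?_
    rw [MulEquiv.toEquiv_eq_coe, EquivLike.coe_coe, MulAut.conjNormal_apply, ← MulAut.mul_apply,
      ← MulAut.mul_apply, ← map_mul, ← map_mul, inv_inv, ← mul_assoc, ← mul_assoc, mul_inv_cancel, one_mul]
  have hcopR : (Nat.card (R : Subgroup H)).Coprime t := by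
    obtain ⟨j, hj⟩ := IsPGroup.iff_card.mp R.2
    rw [hj]
    exact ((Nat.coprime_primes hr.out ht.out).mpr hrt).pow_left j
  -- non-trivial elements are moved by `R`
  have hmoved : ∀ ν ∈ D, ν ≠ 1 → ¬ (R : Subgroup H) ≤ stab N H (linFn ν) := by
    intro ν hν hne hle
    obtain ⟨h1, h2⟩ := (hmemD ν).mp hν
    have h2' : ∀ g : (R : Subgroup H), φ (g : H) ν = ν := fun g => le_stab_linFn.mp hle g g.2
    rw [hPapp, Finset.prod_congr rfl (g := fun _ => ν) fun g _ => h2' g,
      Finset.prod_const, Finset.card_univ, ← Nat.card_eq_fintype_card] at h2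
    have h3 := pow_gcd_eq_one.mpr ⟨h2, h1⟩
    rw [hcopR, pow_one] at h3
    exact hne h3
  -- `D` is non-trivial
  obtain ⟨μ, hμD, hμ1⟩ : ∃ μ ∈ D, μ ≠ 1 := by
    obtain ⟨g₁, hg₁, hg₁'⟩ := SetLike.not_le_iff_exists.mp hl₁
    rw [mem_stab_linFn] at hg₁'
    set ν := φ g₁ l₁ / l₁ with hν
    have hν1 : ν ≠ 1 := fun h => hg₁' (div_eq_one.mp h)
    have hPν : P ν = 1 := by
      rw [hν]
      refine (map_div P _ _).trans (div_eq_one.mpr ?_)
      rw [hPapp, hPapp]
      exact Fintype.prod_equiv (Equiv.mulRight ⟨g₁, hg₁⟩) _ _ fun g => by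
        rw [Equiv.coe_mulRight, Subgroup.coe_mul, map_mul, MulAut.mul_apply]
    obtain ⟨j, hj⟩ := IsPGroup.iff_card.mp L.pgroup
    obtain ⟨i, -, hi⟩ := (Nat.dvd_prime_pow ht.out).mp (show orderOf ν ∣ t ^ j from
      hj ▸ orderOf_dvd_of_pow_eq_one (MonoidHom.ext fun k => by
        rw [MonoidHom.pow_apply, ← map_pow, pow_card_eq_one', map_one, MonoidHom.one_apply]))
    rcases Nat.eq_zero_or_pos i with rfl | hi0
    · exact absurd (orderOf_eq_one_iff.mp (hi.trans (pow_zero t))) hν1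
    refine ⟨ν ^ t ^ (i - 1), (hmemD _).mpr ⟨?_, (map_pow P ν _).trans (((congrArg (· ^ t ^ (i - 1)) hPν)).trans (one_pow (M := N →* ℂˣ) _))⟩, fun h => ?_⟩
    · rw [← pow_mul, ← pow_succ, Nat.sub_add_cancel hi0, ← hi, pow_orderOf_eq_one]
    · have := Nat.le_of_dvd (Nat.pow_pos ht.out.pos) (orderOf_dvd_of_pow_eq_one h)
      rw [hi] at this
      have := (Nat.pow_le_pow_iff_right ht.out.one_lt).mp this
      omega
  obtain ⟨g₀, hg₀, hg₀'⟩ := SetLike.not_le_iff_exists.mp (hmoved μ hμD hμ1)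
  rw [mem_stab_linFn, dualAct_eq_self_iff] at hg₀'
  push Not at hg₀'
  obtain ⟨k₀, hk₀⟩ := hg₀'
  set x : N := conjHom N H g₀ k₀ * k₀⁻¹ with hx
  have hμx : μ x ≠ 1 := by
    rw [hx, map_mul, map_inv, Ne, mul_inv_eq_one]
    exact hk₀
  -- the pairing lands in `D`
  have hmem : ∀ d, L.pairing x d ∈ D := by
    intro d
    refine (hmemD _).mpr ⟨?_, ?_⟩
    · rw [← map_pow, L.dual_exp d, map_one]
    · rw [hPapp]
      refine MonoidHom.ext fun k => ?_
      rw [MonoidHom.finsetProd_apply, MonoidHom.one_apply]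
      simp only [hφ, dualAct_apply]
      have e : ∀ g : (R : Subgroup H), L.pairing x d (conjHom N H (g : H)⁻¹ k) =
          L.pairing k₀ d (conjHom N H ((g : H) * g₀)⁻¹ k) /
            L.pairing k₀ d (conjHom N H (g : H)⁻¹ k) := by
        intro g
        rw [hx, L.pairing_mul, L.pairing_inv, div_eq_mul_inv]
        congr 1
        rw [← L.pairing_conj k₀ (conjHom N H ((g : H) * g₀)⁻¹ k) d (hRM g₀ hg₀ d)]
        congr 1
        rw [← MulAut.mul_apply, ← map_mul, mul_inv_rev, ← mul_assoc, mul_inv_cancel, one_mul]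
      rw [Finset.prod_congr rfl fun g _ => e g, Finset.prod_div_distrib, div_eq_one]
      exact Fintype.prod_equiv (Equiv.mulRight (⟨g₀, hg₀⟩ : (R : Subgroup H))) _ _ fun g => rfl
  -- injectivity
  have hinj : Function.Injective ((L.pairing x).codRestrict D hmem) := by
    rw [injective_iff_map_eq_one]
    intro d hd
    by_contra hd1
    have hd' : ∀ k, L.pairing x d k = 1 := fun k => by
      have : L.pairing x d = 1 := congrArg Subtype.val hd
      rw [this, MonoidHom.one_apply]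
    obtain ⟨θ, hθ1, hθ⟩ := L.exists_over d hd1
    have hθx := L.apply_ne_zero θ hθ x hd'
    have hfix : ∀ g ∈ (R : Subgroup H), μ (conjHom N H g x) = μ x := by
      intro g hg
      have h1 := mem_stab_iff.mp (hRθ θ hθ1 hg) x
      have hd2 : Cfsg.charDegree (twist θ μ : N → ℂ) ≠ 1 := by
        rw [charDegree_eq_of_apply_one (n := Cfsg.charDegree (θ : N → ℂ)) (by
          rw [twist_apply, map_one, Units.val_one, mul_one, cast_irrDegree])]
        exact hθ1
      have h2 := mem_stab_iff.mp (hRθ (twist θ μ) hd2 hg) x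
      rw [twist_apply, twist_apply, h1] at h2
      exact Units.ext (mul_left_cancel₀ hθx h2)
    obtain ⟨h1, h2⟩ := (hmemD μ).mp hμD
    rw [hPapp] at h2
    have h3 : μ x ^ Nat.card (R : Subgroup H) = 1 := by
      rw [← MonoidHom.one_apply (N := ℂˣ) x, ← h2, MonoidHom.finsetProd_apply, Nat.card_eq_fintype_card,
        ← Finset.card_univ, ← Finset.prod_const]
      refine Finset.prod_congr rfl fun g _ => ?_
      rw [hφ, dualAct_apply, hfix _ (inv_mem g.2)]
    have h4 : μ x ^ t = 1 := by rw [← MonoidHom.pow_apply, h1, MonoidHom.one_apply]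
    have h5 := pow_gcd_eq_one.mpr ⟨h3, h4⟩
    rw [hcopR, pow_one] at h5
    exact hμx h5
  have hlt : Nat.card (M →* ℂˣ) < Nat.card D := by
    haveI := Fintype.ofFinite (M →* ℂˣ)
    haveI := Fintype.ofFinite D
    rw [Nat.card_eq_fintype_card, Nat.card_eq_fintype_card]
    refine Fintype.card_lt_of_injective_of_notMem _ hinj (b := ⟨μ, hμD⟩) ?_
    rintro ⟨d, hd⟩
    have he : L.pairing x d = μ := congrArg Subtype.val hd
    exact hμx (by rw [← he]; exact L.pairing_self x d)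
  -- the Sylow number in both spaces
  obtain ⟨d₀, hd₀⟩ := L.exists_dual_ne_one
  haveI : Nontrivial (M →* ℂˣ) := ⟨⟨d₀, 1, hd₀⟩⟩
  haveI : Nontrivial D := ⟨⟨⟨μ, hμD⟩, 1, fun h => hμ1 (congrArg Subtype.val h)⟩⟩
  obtain ⟨a, m, ha0, ham, ha2, hcM, heqM⟩ := exists_dim_of_action (D := M →* ℂˣ) L.dual_exp
    (dualAct (conjHom M H)) (u := q) hQ
    (fun d hd => by simpa only [le_stab_linFn] using (L.unique_of_ne_one htq d hd).1)
  let ψ : H →* MulAut D :=
    MonoidHom.mk' (fun h =>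
      { toFun := fun ν => ⟨φ h ν, hinv h ν ν.2⟩
        invFun := fun ν => ⟨φ h⁻¹ ν, hinv h⁻¹ ν ν.2⟩
        left_inv := fun ν => Subtype.ext (by
          show φ h⁻¹ (φ h ν) = ν
          rw [← MulAut.mul_apply, ← map_mul, inv_mul_cancel, map_one, MulAut.one_apply])
        right_inv := fun ν => Subtype.ext (by
          show φ h (φ h⁻¹ ν) = ν
          rw [← MulAut.mul_apply, ← map_mul, mul_inv_cancel, map_one, MulAut.one_apply])
        map_mul' := fun ν ν' => Subtype.ext (map_mul (φ h) ν.1 ν'.1) })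
      fun g h => MulEquiv.ext fun ν => Subtype.ext (MulEquiv.congr_fun (map_mul φ g h) ν.1)
  have hψ : ∀ (h : H) (ν : D), ψ h ν = ν ↔ φ h ν.1 = ν.1 := fun h ν =>
    ⟨fun e => congrArg Subtype.val e, fun e => Subtype.ext e⟩
  have huD : ∀ ν : D, ν ≠ 1 → ∃! Q : Sylow q H, ∀ g ∈ (Q : Subgroup H), ψ g ν = ν := by
    intro ν hν
    have hdvd := dvd_index_of_not_le R _ (hmoved ν ν.2 fun h => hν (Subtype.ext h))
    have h := (unique_sylow_of_degrees L.compl (linFn_irr (ν : N →* ℂˣ)) (ext_linear _)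
      (hdvd.mul_right _) (q := q) hrq).1
    simpa only [hψ, le_stab_linFn] using h
  have hn1 : Nat.card (Sylow q H) ≠ 1 := by
    intro h
    rw [h, one_mul] at heqM
    have := Nat.pow_lt_pow_right ht.out.one_lt (show a < m by omega)
    have := Nat.one_le_pow a t ht.out.pos
    omega
  have hmD : ∀ Q : Sylow q H, ∃ g ∈ (Q : Subgroup H), ∃ ν, ψ g ν ≠ ν := by
    by_contra hno
    push Not at hno
    obtain ⟨Q, hQ⟩ := hno
    refine hn1 (Nat.card_eq_one_iff_unique.mpr ⟨⟨fun A B => ?_⟩, inferInstance⟩)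
    have hall : ∀ A : Sylow q H, ∀ g ∈ (A : Subgroup H), ∀ ν, ψ g ν = ν := by
      intro A g hg
      obtain ⟨h, rfl⟩ := MulAction.exists_smul_eq H Q A
      rw [Sylow.coe_subgroup_smul, Subgroup.mem_pointwise_smul_iff_inv_smul_mem, MulAut.smul_def,
        MulAut.conj_inv_apply] at hg
      intro ν
      have := hQ _ hg (ψ h⁻¹ ν)
      rw [← MulAut.mul_apply, ← map_mul, mul_assoc, mul_inv_cancel, mul_one, map_mul, MulAut.mul_apply] at this
      exact (ψ h⁻¹).injective this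
    exact (huD ⟨μ, hμD⟩ fun h => hμ1 (congrArg Subtype.val h)).unique
      (fun g hg => hall A g hg _) fun g hg => hall B g hg _
  obtain ⟨b, k, hb0, hbk, hb2, hcD, heqD⟩ := exists_dim_of_action (D := D)
    (fun ν => Subtype.ext ((hmemD ν).mp ν.2).1) ψ (u := q) hmD huD
  rw [hcM, hcD] at hlt
  exact false_of_two_dims ht.out.one_lt hbk hb2 (by omega) hlt heqM heqD

end Layer

end CfsgLib.CharDegree.ThreePrimes
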