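import Cfsg.Agent.Lib.CharDegree.ThreePrimes.Action
import Cfsg.Agent.Lib.CharDegree.Twist
import Cfsg.Agent.Lib.Core.MinNormal

/-!
# Three pairwise separated primes: the common tools, and the split case

* `Miss`, `Sep`: a prime dividing no degree, two primes dividing no common degree
* `false_of_split`: the case of a minimal normal subgroup complemented by the normaliser of a Sylow subgroup
-/

set_option autoImplicit false
set_option linter.all false

namespace CfsgLib.CharDegree.ThreePrimes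

open Subgroup CfsgLib.Char CfsgLib.Clifford

section Defs

/-- The prime divides no degree. -/
def Miss (u : ℕ) (G : Type*) [Group G] : Prop :=
  ∀ χ : Cfsg.IrrCharacter G, ¬ u ∣ Cfsg.charDegree (χ : G → ℂ)

/-- The two primes divide no common degree. -/
def Sep (u v : ℕ) (G : Type*) [Group G] : Prop :=
  ∀ χ : Cfsg.IrrCharacter G, u ∣ Cfsg.charDegree (χ : G → ℂ) → ¬ v ∣ Cfsg.charDegree (χ : G → ℂ)

theorem Sep.symm {u v : ℕ} {G : Type*} [Group G] (h : Sep u v G) : Sep v u G := fun χ hv hu => h χ hu hv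

theorem Sep.quotient {u v : ℕ} {G : Type*} [Group G] [Finite G] (h : Sep u v G) (M : Subgroup G) [M.Normal] :
    Sep u v (G ⧸ M) := fun ψ hu hv => h (infl M ψ) hu hv

variable {G : Type*} [Group G] [Finite G]

/-- An abelian normal subgroup bounds the degrees. -/
theorem miss_of_abelian_normal {u : ℕ} (A : Subgroup G) [A.Normal]
    (hc : ∀ a ∈ A, ∀ b ∈ A, a * b = b * a) (hi : ¬ u ∣ A.index) : Miss u G := fun χ hd => hi (by
  obtain ⟨n, ρ, hρ, -, hn⟩ := exists_rep χ
  haveI := hρ
  have h1 := CfsgLib.Clifford.finrank_dvd_index n ρ A hc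
  rw [Module.finrank_fin_fun, hn] at h1
  exact hd.trans h1)

/-- Characters of an abelian group separate its elements. -/
theorem exists_linear_ne_one {M : Subgroup G} (hMc : ∀ a ∈ M, ∀ b ∈ M, a * b = b * a) {m : M}
    (hm : m ≠ 1) : ∃ μ : M →* ℂˣ, μ m ≠ 1 := by
  letI : CommGroup M := { (inferInstance : Group M) with
    mul_comm := fun a b => Subtype.ext (hMc a a.2 b b.2) }
  exact CommGroup.exists_apply_ne_one_of_hasEnoughRootsOfUnity M ℂ hm

theorem card_linChar {M : Subgroup G} (hMc : ∀ a ∈ M, ∀ b ∈ M, a * b = b * a) :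
    Nat.card (M →* ℂˣ) = Nat.card M := by
  letI : CommGroup M := { (inferInstance : Group M) with
    mul_comm := fun a b => Subtype.ext (hMc a a.2 b b.2) }
  exact Nat.card_congr (CommGroup.monoidHom_mulEquiv_of_hasEnoughRootsOfUnity M ℂ).some.toEquiv

end Defs

section Complement

variable {G : Type*} [Group G] [Finite G] {N H : Subgroup G} [hN : N.Normal]

/-- The projection onto a complement. -/
noncomputable def proj (hc : H.IsComplement' N) : G →* H :=
  hc.QuotientMulEquiv.toMonoidHom.comp (QuotientGroup.mk' N)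

theorem proj_surjective (hc : H.IsComplement' N) : Function.Surjective (proj hc) :=
  hc.QuotientMulEquiv.surjective.comp (QuotientGroup.mk'_surjective N)

theorem mul_inv_proj_mem (hc : H.IsComplement' N) (g : G) : g * (proj hc g : G)⁻¹ ∈ N := by
  have h1 : hc.QuotientMulEquiv.symm (proj hc g) = (g : G ⧸ N) := by simp [proj]
  have h2 : ((proj hc g : G) : G ⧸ N) = (g : G ⧸ N) := h1
  rw [← QuotientGroup.eq_one_iff, QuotientGroup.mk_mul, QuotientGroup.mk_inv, h2, mul_inv_cancel]

/-- A degree of the complement is a degree of the group. -/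
theorem exists_of_complement (hc : H.IsComplement' N) (χ : Cfsg.IrrCharacter H) :
    ∃ χ' : Cfsg.IrrCharacter G, Cfsg.charDegree (χ' : G → ℂ) = Cfsg.charDegree (χ : H → ℂ) := by
  refine ⟨⟨_, IsIrr.comp_surjective (proj hc) (proj_surjective hc) χ.2⟩, charDegree_eq_of_apply_one ?_⟩
  show (χ : H → ℂ) (proj hc 1) = _
  rw [map_one, cast_irrDegree]

/-- Conjugation of the normal subgroup by the complement. -/
noncomputable def conjHom (N H : Subgroup G) [N.Normal] : H →* MulAut N :=
  (MulAut.conjNormal : G →* MulAut N).comp H.subtype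

theorem coe_conjHom (x : H) (n : N) : (conjHom N H x n : G) = (x : G) * n * (x : G)⁻¹ := rfl

theorem mem_stab_iff {θ : N → ℂ} {x : H} : x ∈ stab N H θ ↔ ∀ n, θ (conjHom N H x n) = θ n := by
  show conjFn hN θ x = θ ↔ _
  exact ⟨fun h n => congrFun h n, fun h => funext h⟩

/-- The linear character as a function. -/
noncomputable def linFn (μ : N →* ℂˣ) : N → ℂ := fun n => (μ n : ℂ)

theorem linFn_irr (μ : N →* ℂˣ) : Cfsg.IsIrrCharacter N (linFn μ) := isIrrCharacter_linear μ

theorem charDegree_linFn (μ : N →* ℂˣ) : Cfsg.charDegree (linFn μ) = 1 :=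
  charDegree_eq_of_apply_one (by simp [linFn])

theorem mem_stab_linFn {μ : N →* ℂˣ} {x : H} :
    x ∈ stab N H (linFn μ) ↔ dualAct (conjHom N H) x μ = μ := by
  rw [mem_stab_iff, dualAct_eq_self_iff]
  exact forall_congr' fun n => ⟨fun h => Units.ext h, fun h => congrArg Units.val h⟩

theorem le_stab_linFn {μ : N →* ℂˣ} {P : Subgroup H} :
    P ≤ stab N H (linFn μ) ↔ ∀ g ∈ P, dualAct (conjHom N H) g μ = μ :=
  forall₂_congr fun g _ => mem_stab_linFn

theorem ext_linear (μ : N →* ℂˣ) :
    ∀ I : Subgroup G, (hle : N ≤ I) → (∀ g ∈ I, conjFn hN (linFn μ) g = linFn μ) →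
      (H.subgroupOf I).IsComplement' (N.subgroupOf I) → ∃ χ₀, Cfsg.IsIrrCharacter I χ₀ ∧
        ∀ n : N.subgroupOf I, χ₀ n = linFn μ ⟨(n : I), n.2⟩ := by
  intro I hle hinv hcI
  haveI : (N.subgroupOf I).Normal := hN.subgroupOf I
  let l : N.subgroupOf I →* ℂˣ := μ.comp
    { toFun := fun n => ⟨((n : I) : G), n.2⟩, map_one' := rfl, map_mul' := fun _ _ => rfl }
  exact exists_extension_linear hcI l fun g n => Units.ext (congrFun (hinv g g.2) ⟨((n : I) : G), n.2⟩)

theorem ext_coprime [Fintype N] {θ : N → ℂ} (hθ : Cfsg.IsIrrCharacter N θ)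
    (hcop : (Nat.card N).Coprime (Nat.card H)) :
    ∀ I : Subgroup G, (hle : N ≤ I) → (∀ g ∈ I, conjFn hN θ g = θ) →
      (H.subgroupOf I).IsComplement' (N.subgroupOf I) → ∃ χ₀, Cfsg.IsIrrCharacter I χ₀ ∧
        ∀ n : N.subgroupOf I, χ₀ n = θ ⟨(n : I), n.2⟩ := by
  intro I hle hinv hcI
  haveI : (N.subgroupOf I).Normal := hN.subgroupOf I
  haveI := Fintype.ofFinite I
  haveI := Fintype.ofFinite (N.subgroupOf I)
  let e : N.subgroupOf I ≃* N := Subgroup.subgroupOfEquivOfLe hle
  refine exists_extension_coprime (IsIrr.comp_surjective e.toMonoidHom e.surjective hθ)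
    (fun g n => congrFun (hinv g g.2) (e n)) ?_
  rw [hcI.index_eq_card, Nat.card_congr e.toEquiv]
  refine hcop.coprime_dvd_right ?_
  rw [← inf_subgroupOf_right, Nat.card_congr (Subgroup.subgroupOfEquivOfLe (inf_le_right : H ⊓ I ≤ I)).toEquiv]
  exact Subgroup.card_dvd_of_le inf_le_left

end Complement

section Sylow

variable {K : Type*} [Group K] [Finite K] {u : ℕ} [Fact u.Prime]

theorem exists_sylow_le (S : Subgroup K) (hi : ¬ u ∣ S.index) :
    ∃ P : Sylow u K, (P : Subgroup K) ≤ S := by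
  obtain ⟨P₀⟩ : Nonempty (Sylow u S) := inferInstance
  have hp : IsPGroup u ((P₀ : Subgroup S).map S.subtype) := P₀.2.map _
  have hidx : ¬ u ∣ ((P₀ : Subgroup S).map S.subtype).index := by
    rw [Subgroup.index_map_subtype]
    exact fun h => ((Fact.out : u.Prime).dvd_mul.mp h).elim P₀.not_dvd_index hi
  exact ⟨hp.toSylow hidx, (hp.toSylow_coe hidx).le.trans (Subgroup.map_subtype_le _)⟩

theorem sylow_le_of_normal (U : Sylow u K) [(U : Subgroup K).Normal] (S : Subgroup K)
    (hi : ¬ u ∣ S.index) : (U : Subgroup K) ≤ S := by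
  obtain ⟨P, hP⟩ := exists_sylow_le S hi
  obtain ⟨g, rfl⟩ := MulAction.exists_smul_eq K U P
  rwa [Sylow.smul_eq_of_normal] at hP

theorem dvd_index_of_not_le (U : Sylow u K) [(U : Subgroup K).Normal] (S : Subgroup K)
    (h : ¬ (U : Subgroup K) ≤ S) : u ∣ S.index :=
  not_not.mp fun hi => h (sylow_le_of_normal U S hi)

theorem sylow_normal_of_unique_le (U : Sylow u K) {C S : Subgroup K} [hC : C.Normal]
    (hUC : (U : Subgroup K) ≤ C) (hCS : C ≤ S) (h : ∃! P : Sylow u K, (P : Subgroup K) ≤ S) :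
    (U : Subgroup K).Normal := by
  refine ⟨fun x hx g => ?_⟩
  have hmem : ∀ y ∈ ((g • U : Sylow u K) : Subgroup K), y ∈ S := by
    intro y hy
    rw [Sylow.coe_subgroup_smul, Subgroup.mem_pointwise_smul_iff_inv_smul_mem, MulAut.smul_def,
      MulAut.conj_inv_apply] at hy
    have := hC.conj_mem _ (hUC hy) g
    rw [show g * (g⁻¹ * y * g) * g⁻¹ = y by group] at this
    exact hCS this
  have h1 : g • U = U := h.unique hmem (hUC.trans hCS)
  rw [← h1, Sylow.coe_subgroup_smul, Subgroup.mem_pointwise_smul_iff_inv_smul_mem, MulAut.smul_def,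
    MulAut.conj_inv_apply, show g⁻¹ * (g * x * g⁻¹) * g = x by group]
  exact hx

end Sylow

section Split

variable {G : Type*} [Group G] [Finite G] [Group.IsSolvable G]

omit [Group.IsSolvable G] in
/-- What fixes all linear characters of an abelian normal subgroup centralises it. -/
theorem commute_of_fix {M H : Subgroup G} [M.Normal] (hMc : ∀ a ∈ M, ∀ b ∈ M, a * b = b * a) {x : H}
    (hfix : ∀ μ : M →* ℂˣ, dualAct (conjHom M H) x μ = μ) {m : G} (hm : m ∈ M) : Commute (x : G) m := by
  have h1 : conjHom M H x ⟨m, hm⟩ = ⟨m, hm⟩ := by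
    by_contra hne
    obtain ⟨μ, hμ⟩ := exists_linear_ne_one hMc
      (m := conjHom M H x ⟨m, hm⟩ * (⟨m, hm⟩ : M)⁻¹) (fun h => hne (mul_inv_eq_one.mp h))
    refine hμ ?_
    rw [map_mul, map_inv, (dualAct_eq_self_iff _ _ _).mp (hfix μ) ⟨m, hm⟩, mul_inv_cancel]
  have h2 : (x : G) * m * (x : G)⁻¹ = m := congrArg Subtype.val h1
  exact mul_inv_eq_iff_eq_mul.mp h2

/-- A prime whose Sylow subgroup in the complement centralises the normal subgroup misses all degrees. -/
theorem miss_of_centralizing {M H : Subgroup G} [M.Normal] (hc : H.IsComplement' M)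
    (hMc : ∀ a ∈ M, ∀ b ∈ M, a * b = b * a) {u : ℕ} [Fact u.Prime] (U : Sylow u H)
    [(U : Subgroup H).Normal] (hUc : IsMulCommutative (U : Subgroup H))
    (hfix : ∀ g ∈ (U : Subgroup H), ∀ μ : M →* ℂˣ, dualAct (conjHom M H) g μ = μ) : Miss u G := by
  haveI : ((U : Subgroup H).comap (proj hc)).Normal := (inferInstance : (U : Subgroup H).Normal).comap _
  refine miss_of_abelian_normal ((U : Subgroup H).comap (proj hc)) ?_ ?_
  · intro a ha b hb
    have hcent : ∀ x ∈ (U : Subgroup H), ∀ m ∈ M, Commute (x : G) m :=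
      fun x hx m hm => commute_of_fix hMc (hfix x hx) hm
    set x := proj hc a
    set y := proj hc b
    have hxy : Commute (x : G) (y : G) := by
      have h3 := hUc.is_comm.comm ⟨x, ha⟩ ⟨y, hb⟩
      exact congrArg (fun z : (U : Subgroup H) => ((z : H) : G)) h3
    have hm := mul_inv_proj_mem hc a
    have hn := mul_inv_proj_mem hc b
    have hab : Commute ((a * (x : G)⁻¹) * (x : G)) ((b * (y : G)⁻¹) * (y : G)) :=
      ((show Commute _ _ from hMc _ hm _ hn).mul_right (hcent y hb _ hm).symm).mul_left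
        ((hcent x ha _ hn).mul_right hxy)
    simpa using hab.eq
  · rw [Subgroup.index_comap_of_surjective _ (proj_surjective hc)]
    exact U.not_dvd_index

/-- The case of a prime other than `t` missing the quotient by the minimal normal `t`-subgroup. -/
theorem false_of_split {M : Subgroup G} [M.Normal] (hM : M ≠ ⊥)
    (hmin : ∀ K : Subgroup G, K.Normal → K ≤ M → K = ⊥ ∨ K = M)
    (hMc : ∀ a ∈ M, ∀ b ∈ M, a * b = b * a) {t : ℕ} (ht : t.Prime) (hexp : ∀ m ∈ M, m ^ t = 1)
    {s u v : ℕ} [Fact s.Prime] [Fact u.Prime] [Fact v.Prime] (huv : u ≠ v) (hst : s ≠ t)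
    (h_su : Sep s u G) (h_sv : Sep s v G) (h_uv : Sep u v G)
    (hs : ¬ Miss s G) (hu : ¬ Miss u G) (hv : ¬ Miss v G) (hsq : Miss s (G ⧸ M)) : False := by
  classical
  haveI := Fact.mk ht
  haveI := Fintype.ofFinite G
  haveI := Fintype.ofFinite M
  have hMp : IsPGroup t M := fun m => ⟨1, by rw [pow_one]; exact Subtype.ext (hexp m m.2)⟩
  obtain ⟨S⟩ : Nonempty (Sylow s G) := inferInstance
  have hπ := QuotientGroup.mk'_surjective M
  obtain ⟨hSn, hSc⟩ := (itoMichler (Or.inr inferInstance) (S.mapSurjective hπ)).mpr hsq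
  rw [Sylow.coe_mapSurjective] at hSn
  have hSM : ((S : Subgroup G) ⊔ M).Normal := by
    have h := hSn.comap (QuotientGroup.mk' M)
    rwa [Subgroup.comap_map_eq, QuotientGroup.ker_mk'] at h
  have hdisjS : (S : Subgroup G) ⊓ M = ⊥ := by
    rw [← disjoint_iff]
    exact IsPGroup.disjoint_of_ne s t hst _ _ S.2 hMp
  set H := normalizer (S : Set G) with hH
  have hSH : (S : Subgroup G) ≤ H := Subgroup.le_normalizer
  have htop : H ⊔ M = ⊤ := by
    haveI := hSM
    have h := Sylow.normalizer_sup_eq_top' S (N := (S : Subgroup G) ⊔ M) le_sup_left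
    rw [← sup_assoc] at h
    rwa [show normalizer (S : Set G) ⊔ (S : Subgroup G) = H from sup_eq_left.mpr hSH] at h
  have hScomm : ∀ a ∈ (S : Subgroup G), ∀ b ∈ (S : Subgroup G), a * b = b * a := by
    intro a ha b hb
    have h1 : QuotientGroup.mk' M (a * b) = QuotientGroup.mk' M (b * a) := by
      rw [map_mul, map_mul]
      refine congrArg Subtype.val (hSc.is_comm.comm ⟨QuotientGroup.mk' M a, ?_⟩ ⟨QuotientGroup.mk' M b, ?_⟩) <;>
        rw [Sylow.coe_mapSurjective] <;> exact Subgroup.mem_map_of_mem _ (by assumption)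
    obtain ⟨z, hz, hz'⟩ := (QuotientGroup.mk'_eq_mk' M).mp h1
    have hzS : z ∈ (S : Subgroup G) := by
      rw [show z = (a * b)⁻¹ * (b * a) by rw [← hz']; group]
      exact mul_mem (inv_mem (mul_mem ha hb)) (mul_mem hb ha)
    rw [← hz', show z = 1 from Subgroup.mem_bot.mp (hdisjS ▸ ⟨hzS, hz⟩), mul_one]
  -- `M` is not in the normaliser
  have hMH : M ⊓ H = ⊥ := by
    refine (hmin (M ⊓ H) ?_ inf_le_left).resolve_right fun h => hs ?_
    · rw [← Subgroup.normalizer_eq_top_iff, eq_top_iff, ← htop, sup_le_iff]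
      constructor
      · intro x hx
        rw [Subgroup.mem_normalizer_iff]
        intro m
        constructor
        · rintro ⟨h1, h2⟩
          exact ⟨Subgroup.Normal.conj_mem inferInstance m h1 x, H.mul_mem (H.mul_mem hx h2) (H.inv_mem hx)⟩
        · rintro ⟨h1, h2⟩
          have e : m = x⁻¹ * (x * m * x⁻¹) * x⁻¹⁻¹ := by group
          rw [e]
          exact ⟨Subgroup.Normal.conj_mem inferInstance _ h1 x⁻¹,
            H.mul_mem (H.mul_mem (H.inv_mem hx) h2) (H.inv_mem (H.inv_mem hx))⟩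
      · intro x hx
        rw [Subgroup.mem_normalizer_iff]
        intro m
        constructor
        · rintro ⟨h1, h2⟩
          rw [hMc x hx m h1, mul_inv_cancel_right]
          exact ⟨h1, h2⟩
        · rintro ⟨h1, h2⟩
          have hm : m ∈ M := by
            have := Subgroup.Normal.conj_mem (inferInstance : M.Normal) _ h1 x⁻¹
            simpa [mul_assoc] using this
          rw [hMc x hx m hm, mul_inv_cancel_right] at h2
          exact ⟨hm, h2⟩
    · have hle : M ≤ H := inf_eq_left.mp h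
      rw [sup_eq_left.mpr hle] at htop
      haveI : (S : Subgroup G).Normal := Subgroup.normalizer_eq_top_iff.mp htop
      exact miss_of_abelian_normal (S : Subgroup G) hScomm S.not_dvd_index
  have hc : H.IsComplement' M := by
    refine Subgroup.isComplement'_of_disjoint_and_mul_eq_univ (disjoint_iff.mpr (inf_comm H M ▸ hMH)) ?_
    rw [← Subgroup.mul_normal, htop, Subgroup.coe_top]
  set φ := dualAct (conjHom M H) with hφ
  let SH : Sylow s H := S.subtype hSH
  haveI hSHn : (SH : Subgroup H).Normal := by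
    rw [Sylow.coe_subtype]; exact Subgroup.normal_in_normalizer
  -- the Sylow subgroup fixes no non-trivial character
  have hnofix : ∀ μ : M →* ℂˣ, μ ≠ 1 → s ∣ (stab M H (linFn μ)).index := by
    intro μ hμ
    refine dvd_index_of_not_le SH _ fun hle => hμ ?_
    letI : CommGroup M := { (inferInstance : Group M) with
      mul_comm := fun a b => Subtype.ext (hMc a a.2 b b.2) }
    haveI := Fintype.ofFinite (SH : Subgroup H)
    ext m
    let z : M := ∏ x : (SH : Subgroup H), conjHom M H x m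
    have hz : ∀ y : (SH : Subgroup H), conjHom M H y z = z := fun y => by
      rw [map_prod]
      simp only [← MulAut.mul_apply, ← map_mul, ← Subgroup.coe_mul]
      exact Fintype.prod_equiv (Equiv.mulLeft y) _ _ fun x => rfl
    have hz1 : z = 1 := by
      have hzH : (z : G) ∈ H := by
        show (z : G) ∈ normalizer ((S : Subgroup G) : Set G)
        rw [Subgroup.mem_normalizer_iff]
        intro a
        have hcomm : ∀ b ∈ (S : Subgroup G), (z : G) * b = b * z := by
          intro b hb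
          have h := congrArg Subtype.val (hz ⟨⟨b, hSH hb⟩, by rw [Sylow.coe_subtype]; exact hb⟩)
          rw [coe_conjHom] at h
          exact (mul_inv_eq_iff_eq_mul.mp h).symm
        constructor
        · intro ha
          rw [hcomm a ha, mul_inv_cancel_right]
          exact ha
        · intro ha
          have e := hcomm _ ha
          have e2 : (z : G) * (z * a * (z : G)⁻¹) * (z : G)⁻¹ = z * a * (z : G)⁻¹ := by rw [e]; group
          have e3 : (z : G) * a * (z : G)⁻¹ = a := by
            have := congrArg (fun g : G => (z : G)⁻¹ * g * z) e2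
            simpa [mul_assoc] using this
          rwa [e3] at ha
      exact Subtype.ext (Subgroup.mem_bot.mp (hMH ▸ ⟨z.2, hzH⟩))
    have h1 : μ m ^ Nat.card (SH : Subgroup H) = 1 := by
      rw [← map_one μ, ← hz1, map_prod, Nat.card_eq_fintype_card, ← Finset.card_univ, ← Finset.prod_const]
      refine Finset.prod_congr rfl fun x _ => ?_
      exact ((dualAct_eq_self_iff _ _ _).mp (le_stab_linFn.mp hle x x.2) m).symm
    have h2 : μ m ^ t = 1 := by
      rw [← map_pow, show m ^ t = 1 from Subtype.ext (hexp m m.2), map_one]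
    have hcop : Nat.Coprime (Nat.card (SH : Subgroup H)) t := by
      obtain ⟨k, hk⟩ := IsPGroup.iff_card.mp SH.2
      rw [hk]
      exact ((Nat.coprime_primes Fact.out ht).mpr hst).pow_left k
    have h3 := pow_gcd_eq_one.mpr ⟨h1, h2⟩
    rw [hcop, pow_one] at h3
    simpa using congrArg Units.val h3
  haveI : Nontrivial M := (Subgroup.nontrivial_iff_ne_bot M).mpr hM
  obtain ⟨m₀, hm₀⟩ := exists_ne (1 : M)
  obtain ⟨μ₀, hμ₀'⟩ := exists_linear_ne_one hMc hm₀
  have hμ₀ : μ₀ ≠ 1 := fun h => hμ₀' (by rw [h]; rfl)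
  haveI : Nontrivial (M →* ℂˣ) := ⟨⟨μ₀, 1, hμ₀⟩⟩
  have hexpD : ∀ d : M →* ℂˣ, d ^ t = 1 := fun d => MonoidHom.ext fun m => by
    rw [MonoidHom.pow_apply, ← map_pow, show m ^ t = 1 from Subtype.ext (hexp m m.2), map_one,
      MonoidHom.one_apply]
  -- both other primes
  have key : ∀ (w : ℕ) [Fact w.Prime], Sep s w G → ¬ Miss w G →
      (∀ P : Sylow w H, ∃ g ∈ (P : Subgroup H), ∃ d, φ g d ≠ d) ∧
      (∀ d : M →* ℂˣ, d ≠ 1 → ∃! P : Sylow w H, ∀ g ∈ (P : Subgroup H), φ g d = d) := by
    intro w _ hsep hw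
    have huniq : ∀ d : M →* ℂˣ, d ≠ 1 → (∃! P : Sylow w H, (P : Subgroup H) ≤ stab M H (linFn d)) ∧
        ∀ P : Sylow w H, (P : Subgroup H) ≤ stab M H (linFn d) →
          ((P : Subgroup H).subgroupOf (stab M H (linFn d))).Normal ∧ IsMulCommutative (P : Subgroup H) :=
      fun d hd => unique_sylow_of_degrees hc (linFn_irr d) (ext_linear d)
        ((hnofix d hd).mul_right _) hsep
    refine ⟨?_, fun d hd => by simpa only [le_stab_linFn] using (huniq d hd).1⟩
    by_contra hno
    push Not at hno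
    obtain ⟨U, hU⟩ := hno
    have hUle : ∀ d : M →* ℂˣ, (U : Subgroup H) ≤ stab M H (linFn d) := fun d =>
      le_stab_linFn.mpr fun g hg => hU g hg d
    haveI : (U : Subgroup H).Normal := sylow_normal_of_unique_le U (C := φ.ker)
      (fun g hg => MonoidHom.mem_ker.mpr (MulEquiv.ext fun d => hU g hg d))
      (fun g hg => mem_stab_linFn.mpr (by
        show φ g μ₀ = μ₀
        rw [MonoidHom.mem_ker.mp hg, MulAut.one_apply]))
      (huniq μ₀ hμ₀).1
    exact hw (miss_of_centralizing hc hMc U ((huniq μ₀ hμ₀).2 U (hUle μ₀)).2 hU)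
  obtain ⟨hmu, hUu⟩ := key u h_su hu
  obtain ⟨hmv, hUv⟩ := key v h_sv hv
  obtain ⟨χ, hχu, hχv⟩ := exists_degree_of_two (D := M →* ℂˣ) hexpD φ huv hmu hmv
    (fun d hd => hUu d hd) (fun d hd => hUv d hd)
  obtain ⟨χ', hχ'⟩ := exists_of_complement hc χ
  exact h_uv χ' (hχ' ▸ hχu) (hχ' ▸ hχv)

end Split

end CfsgLib.CharDegree.ThreePrimes
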